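import Cfsg.Agent.Chev.SL2
import Mathlib.FieldTheory.Finite.Basic
import Mathlib.FieldTheory.Finite.Extension
import Mathlib.RingTheory.IntegralDomain

/-!
Element orders of `SL(2, q)` for `q` even: an involution, or a divisor of `q - 1` or of `q + 1`.
-/

set_option autoImplicit false
set_option linter.unusedSectionVars false

open Matrix

namespace Cfsg.Lib.GTwoOrd

open Cfsg.Lib.Chev

variable {F : Type*} [Field F] [CharP F 2]

/-- The trace. -/
def tau (g : SpecialLinearGroup (Fin 2) F) : F := mat g 0 0 + mat g 1 1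

theorem neg_two (a : F) : -a = a := CharTwo.neg_eq a

theorem sq_eq (g : SpecialLinearGroup (Fin 2) F) : mat g * mat g = tau g • mat g + 1 := by
  have hd := mat_det g
  have h2 : (2 : F) = 0 := CharP.cast_eq_zero F 2
  ext i j
  fin_cases i <;> fin_cases j <;> simp [Matrix.mul_apply, Fin.sum_univ_two, tau]
  · linear_combination (-1 : F) * hd - h2
  · ring
  · ring
  · linear_combination (-1 : F) * hd - h2

theorem sq_one {g : SpecialLinearGroup (Fin 2) F} (h : tau g = 0) : g ^ 2 = 1 := by
  apply mat_inj
  rw [pow_two, mat_mul, sq_eq, h, zero_smul, zero_add, mat_one]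

theorem mat_pow (g : SpecialLinearGroup (Fin 2) F) (n : ℕ) : mat (g ^ n) = mat g ^ n :=
  Matrix.SpecialLinearGroup.coe_pow g n

/-- Powers lie in the span of `1` and the matrix. -/
theorem pow_span (g : SpecialLinearGroup (Fin 2) F) :
    ∀ n : ℕ, ∃ u v : F, mat g ^ n = u • (1 : Matrix (Fin 2) (Fin 2) F) + v • mat g
  | 0 => ⟨1, 0, by simp⟩
  | n + 1 => by
    obtain ⟨u, v, h⟩ := pow_span g n
    refine ⟨v, u + v * tau g, ?_⟩
    rw [pow_succ, h, add_mul, Matrix.smul_mul, Matrix.smul_mul, one_mul, sq_eq, smul_add, smul_smul, add_smul]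
    abel

theorem det_span (g : SpecialLinearGroup (Fin 2) F) (u v : F) :
    (u • (1 : Matrix (Fin 2) (Fin 2) F) + v • mat g).det = u ^ 2 + u * v * tau g + v ^ 2 := by
  have hd := mat_det g
  simp [Matrix.det_fin_two, tau]
  linear_combination v ^ 2 * hd

variable [Fintype F]

theorem frob_quad (g : SpecialLinearGroup (Fin 2) F) :
    (mat g ^ Fintype.card F) * (mat g ^ Fintype.card F) = tau g • mat g ^ Fintype.card F + 1 := by
  obtain ⟨n, -, hn⟩ := FiniteField.card F 2
  rw [← (Commute.refl (mat g)).mul_pow, sq_eq]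
  have hc : Commute (tau g • mat g) (1 : Matrix (Fin 2) (Fin 2) F) := Commute.one_right _
  rw [hn, add_pow_char_pow_of_commute 2 n hc, one_pow, smul_pow, ← hn, FiniteField.pow_card]

/-- Without an eigenvalue the Frobenius is the inverse or the identity. -/
theorem pow_card_cases (g : SpecialLinearGroup (Fin 2) F) (hroot : ∀ l : F, l ^ 2 + tau g * l + 1 ≠ 0) :
    g ^ (Fintype.card F - 1) = 1 ∨ g ^ (Fintype.card F + 1) = 1 := by
  set q := Fintype.card F with hq
  have hq1 : 1 ≤ q := Fintype.card_pos
  obtain ⟨u, v, huv⟩ := pow_span g q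
  set A := mat g with hA
  set B := A ^ q with hB
  set C := A + tau g • (1 : Matrix (Fin 2) (Fin 2) F) with hC
  have hBB : B * B = tau g • B + 1 := frob_quad g
  have hAC : A * C = 1 := by
    rw [hC, mul_add, sq_eq, Matrix.mul_smul, mul_one, add_right_comm, ← add_smul, CharTwo.add_self_eq_zero,
      zero_smul, zero_add]
  have hcomm : Commute A B := (Commute.refl A).pow_right q
  have hprod : (B + A) * (B + C) = 0 := by
    have e : (B + A) * (B + C) = B * B + A * B + (B * A + tau g • B) + A * C := by
      rw [hC, add_mul, mul_add B, mul_add B, mul_add A B, Matrix.mul_smul, mul_one]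
      abel
    rw [e, hBB, hAC, hcomm.eq]
    have h0 : ∀ X : Matrix (Fin 2) (Fin 2) F, X + X = 0 := fun X => by
      ext i j; exact CharTwo.add_self_eq_zero _
    calc tau g • B + 1 + B * A + (B * A + tau g • B) + 1
        = (tau g • B + tau g • B) + (B * A + B * A) + (1 + 1) := by abel
      _ = 0 := by simp [h0]
  have key : B + A = 0 ∨ B + C = 0 := by
    by_cases h : B + A = 0
    · exact Or.inl h
    refine Or.inr ?_
    have hsp : B + A = u • (1 : Matrix (Fin 2) (Fin 2) F) + (v + 1) • A := by
      rw [huv, add_smul, one_smul, add_assoc]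
    have hdet : (B + A).det ≠ 0 := by
      rw [hsp, det_span]
      intro h0
      by_cases hv : v + 1 = 0
      · have hu : u = 0 := by
          rw [hv] at h0
          simpa using h0
        exact h (by rw [hsp, hv, hu]; simp)
      · refine hroot (u / (v + 1)) ?_
        field_simp
        linear_combination h0
    exact (Matrix.isUnit_iff_isUnit_det _).2 (isUnit_iff_ne_zero.2 hdet) |>.mul_right_eq_zero.1 hprod
  have hneg : ∀ X Y : Matrix (Fin 2) (Fin 2) F, X + Y = 0 → X = Y := fun X Y h => by
    ext i j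
    have := congrFun (congrFun h i) j
    exact CharTwo.add_eq_zero.1 this
  rcases key with h | h
  · refine Or.inl (mul_right_cancel (b := g) ?_)
    rw [← pow_succ, show q - 1 + 1 = q by omega, one_mul]
    exact mat_inj (by rw [mat_pow]; exact hneg _ _ h)
  · refine Or.inr (mat_inj ?_)
    rw [mat_pow, pow_succ', mat_one]
    show A * B = 1
    rw [hneg _ _ h, hAC]

/-- An element is an involution, or its order divides `q - 1` or `q + 1`. -/
theorem order_cases (g : SpecialLinearGroup (Fin 2) F) :
    g ^ 2 = 1 ∨ g ^ (Fintype.card F - 1) = 1 ∨ g ^ (Fintype.card F + 1) = 1 := by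
  classical
  by_cases ht : tau g = 0
  · exact Or.inl (sq_one ht)
  refine Or.inr ?_
  by_cases hroot : ∀ l : F, l ^ 2 + tau g * l + 1 ≠ 0
  · exact pow_card_cases g hroot
  push_neg at hroot
  obtain ⟨l, hl⟩ := hroot
  refine Or.inl ?_
  have hl0 : l ≠ 0 := fun h => by simp [h] at hl
  have hlm : l⁻¹ ^ 2 + tau g * l⁻¹ + 1 = 0 := by
    field_simp
    linear_combination hl
  have hne : l ≠ l⁻¹ := by
    intro h
    have h1 : l * l = 1 := by rw [← mul_inv_cancel₀ hl0, ← h]
    exact ht (by
      have : tau g * l = 0 := by linear_combination hl - (h1 : l * l = 1) - (CharP.cast_eq_zero F 2 : (2 : F) = 0)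
      exact (mul_eq_zero.1 this).resolve_right hl0)
  have htau : tau g = l + l⁻¹ := by
    have := mul_inv_cancel₀ hl0
    refine mul_right_cancel₀ hl0 ?_
    linear_combination hl - (1 : F) * this - l ^ 2 * (CharP.cast_eq_zero F 2 : (2 : F) = 0) -
      (CharP.cast_eq_zero F 2 : (2 : F) = 0)
  have hcop : IsCoprime (Polynomial.X - Polynomial.C l) (Polynomial.X - Polynomial.C l⁻¹) :=
    Polynomial.isCoprime_X_sub_C_of_isUnit_sub (sub_ne_zero.2 hne).isUnit
  have hq := Fintype.one_lt_card (α := F)
  have hdvd : (Polynomial.X - Polynomial.C l) * (Polynomial.X - Polynomial.C l⁻¹) ∣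
      Polynomial.X ^ (Fintype.card F - 1) - 1 := by
    refine hcop.mul_dvd ?_ ?_ <;> rw [Polynomial.dvd_iff_isRoot] <;>
      simp [FiniteField.pow_card_sub_one_eq_one, hl0, inv_ne_zero hl0, inv_pow]
  obtain ⟨P, hP⟩ := hdvd
  have hz : Polynomial.aeval (mat g) ((Polynomial.X - Polynomial.C l) * (Polynomial.X - Polynomial.C l⁻¹)) = 0 := by
    simp only [map_mul, map_sub, Polynomial.aeval_X, Polynomial.aeval_C, Algebra.algebraMap_eq_smul_one]
    have e : (mat g - l • (1 : Matrix (Fin 2) (Fin 2) F)) * (mat g - l⁻¹ • 1) =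
        mat g * mat g - (l + l⁻¹) • mat g + (l * l⁻¹) • 1 := by
      rw [sub_mul, mul_sub, mul_sub, Matrix.smul_mul, Matrix.smul_mul, Matrix.mul_smul, one_mul, mul_one, one_mul,
        smul_smul, add_smul]
      abel
    rw [e, sq_eq, htau, mul_inv_cancel₀ hl0, one_smul]
    ext i j
    simp [CharTwo.add_self_eq_zero]
  have h1 := congrArg (Polynomial.aeval (mat g)) hP
  rw [map_mul, hz, zero_mul, map_sub, map_pow, Polynomial.aeval_X, map_one, sub_eq_zero] at h1
  exact mat_inj (by rw [mat_pow, h1, mat_one])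

theorem order_dvd (g : SpecialLinearGroup (Fin 2) F) :
    orderOf g ∣ 2 ∨ orderOf g ∣ Fintype.card F - 1 ∨ orderOf g ∣ Fintype.card F + 1 := by
  rcases order_cases g with h | h | h
  exacts [Or.inl (orderOf_dvd_of_pow_eq_one h), Or.inr (Or.inl (orderOf_dvd_of_pow_eq_one h)),
    Or.inr (Or.inr (orderOf_dvd_of_pow_eq_one h))]

omit [Fintype F] in
theorem map_mat {K : Type*} [Field K] (f : F →+* K) (g : SpecialLinearGroup (Fin 2) F) :
    mat (Matrix.SpecialLinearGroup.map f g) = (mat g).map f := rfl

omit [CharP F 2] [Fintype F] in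
/-- The diagonal element. -/
def dia2 (l : Fˣ) : SpecialLinearGroup (Fin 2) F :=
  ⟨!![(l : F), 0; 0, ((l⁻¹ : Fˣ) : F)], by simp [Matrix.det_fin_two]⟩

omit [CharP F 2] [Fintype F] in
theorem orderOf_dia2 (l : Fˣ) : orderOf (dia2 l) = orderOf l := by
  have h : ∀ n : ℕ, mat (dia2 l ^ n) = !![((l ^ n : Fˣ) : F), 0; 0, (((l⁻¹) ^ n : Fˣ) : F)] := by
    intro n
    induction n with
    | zero =>
      rw [pow_zero, mat_one]
      ext i j; fin_cases i <;> fin_cases j <;> simp
    | succ n ih =>
      rw [pow_succ, mat_mul, ih]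
      ext i j
      fin_cases i <;> fin_cases j <;> simp [mat, dia2, Matrix.mul_apply, Fin.sum_univ_two, pow_succ]
  refine orderOf_eq_orderOf_iff.2 fun n => ⟨fun e => ?_, fun e => ?_⟩
  · have := h n
    rw [e, mat_one] at this
    have := congrFun (congrFun this 0) 0
    simp only [Matrix.one_apply_eq, Matrix.of_apply, Matrix.cons_val', Matrix.cons_val_zero,
      Matrix.cons_val_fin_one] at this
    exact Units.ext this.symm
  · apply mat_inj
    rw [h n, inv_pow, e, inv_one, mat_one]
    ext i j; fin_cases i <;> fin_cases j <;> simp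

theorem exists_order_sub : ∃ g : SpecialLinearGroup (Fin 2) F, orderOf g = Fintype.card F - 1 := by
  obtain ⟨u, hu⟩ := IsCyclic.exists_ofOrder_eq_natCard (α := Fˣ)
  exact ⟨dia2 u, by rw [orderOf_dia2, hu, Nat.card_units, Nat.card_eq_fintype_card]⟩

variable {K : Type*} [Field K] [Fintype K] [Algebra F K]

theorem fixed_mem (hK : Fintype.card K = Fintype.card F ^ 2) {y : K} (hy : y ^ Fintype.card F = y) :
    y ∈ Set.range (algebraMap F K) := by
  classical
  by_contra hny
  have hq := Fintype.one_lt_card (α := F)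
  have hp : (Polynomial.X ^ Fintype.card F - Polynomial.X : Polynomial K) ≠ 0 :=
    FiniteField.X_pow_card_sub_X_ne_zero K hq
  have hsub : insert y (Finset.univ.image (algebraMap F K)) ⊆
      (Polynomial.X ^ Fintype.card F - Polynomial.X : Polynomial K).roots.toFinset := by
    intro z hz
    rw [Multiset.mem_toFinset, Polynomial.mem_roots hp]
    rcases Finset.mem_insert.1 hz with rfl | hz
    · simp [hy]
    · obtain ⟨a, -, rfl⟩ := Finset.mem_image.1 hz
      simp [← map_pow, FiniteField.pow_card]
  have h1 := Finset.card_le_card hsub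
  rw [Finset.card_insert_of_notMem (by simpa using hny),
    Finset.card_image_of_injective _ (algebraMap F K).injective, Finset.card_univ] at h1
  have h2 := (Multiset.toFinset_card_le _).trans (Polynomial.card_roots'
    (Polynomial.X ^ Fintype.card F - Polynomial.X : Polynomial K))
  rw [FiniteField.X_pow_card_sub_X_natDegree_eq K hq] at h2
  omega

theorem exists_order_add (hK : Fintype.card K = Fintype.card F ^ 2) :
    ∃ g : SpecialLinearGroup (Fin 2) F, orderOf g = Fintype.card F + 1 := by
  classical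
  set q := Fintype.card F with hq
  have hq2 : 2 ≤ q := Fintype.one_lt_card
  haveI : CharP K 2 := charP_of_injective_algebraMap (algebraMap F K).injective 2
  obtain ⟨u, hu⟩ := IsCyclic.exists_ofOrder_eq_natCard (α := Kˣ)
  rw [Nat.card_units, Nat.card_eq_fintype_card, hK] at hu
  set z : Kˣ := u ^ (q - 1) with hz
  have hfac : q ^ 2 - 1 = (q - 1) * (q + 1) := by
    obtain ⟨k, hk⟩ : ∃ k, q = k + 1 := ⟨q - 1, by omega⟩
    rw [hk, Nat.add_sub_cancel]
    ring_nf
    omega
  have hzo : orderOf z = q + 1 := by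
    rw [hz, orderOf_pow_of_dvd (by omega) (by rw [hu, hfac]; exact dvd_mul_right _ _), hu, hfac,
      Nat.mul_div_cancel_left _ (by omega)]
  have hz1 : (z : K) ^ (q + 1) = 1 := by
    rw [← Units.val_pow_eq_pow_val, ← hzo, pow_orderOf_eq_one, Units.val_one]
  have hzq : (z : K) ^ q = (z : K)⁻¹ := by
    refine eq_inv_of_mul_eq_one_left ?_
    rw [← pow_succ, hz1]
  obtain ⟨t, ht⟩ := fixed_mem (F := F) hK (y := (z : K) + (z : K)⁻¹) (by
    obtain ⟨n, -, hn⟩ := FiniteField.card F 2
    rw [hn, add_pow_char_pow, ← hn, inv_pow, hzq, inv_inv, add_comm])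
  let g : SpecialLinearGroup (Fin 2) F := ⟨!![0, 1; 1, t], by simp [Matrix.det_fin_two, CharTwo.neg_eq]⟩
  refine ⟨g, ?_⟩
  have hne : (z : K) ≠ (z : K)⁻¹ := by
    intro h
    have : z ^ 2 = 1 := Units.ext (by
      rw [Units.val_pow_eq_pow_val, pow_two]
      nth_rewrite 2 [h]
      simp)
    have := Nat.le_of_dvd (by norm_num) (hzo ▸ orderOf_dvd_of_pow_eq_one this)
    omega
  set M := (mat g).map (algebraMap F K) with hM
  set P : Matrix (Fin 2) (Fin 2) K := !![1, 1; (z : K), (z : K)⁻¹] with hP
  set D : Matrix (Fin 2) (Fin 2) K := !![(z : K), 0; 0, (z : K)⁻¹] with hD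
  have hMP : M * P = P * D := by
    have hzi : (z : K) * (z : K)⁻¹ = 1 := mul_inv_cancel₀ z.ne_zero
    ext i j
    fin_cases i <;> fin_cases j <;>
      simp [hM, hP, hD, g, mat, Matrix.mul_apply, Fin.sum_univ_two, ht] <;>
      (first
          | linear_combination hzi
          | linear_combination -hzi
          | linear_combination hzi + (CharP.cast_eq_zero K 2 : (2 : K) = 0)
          | linear_combination hzi - (CharP.cast_eq_zero K 2 : (2 : K) = 0)
          | linear_combination -hzi + (CharP.cast_eq_zero K 2 : (2 : K) = 0)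
          | linear_combination -hzi - (CharP.cast_eq_zero K 2 : (2 : K) = 0))
  have hpowMP : ∀ n : ℕ, M ^ n * P = P * D ^ n := by
    intro n
    induction n with
    | zero => simp
    | succ n ih => rw [pow_succ, mul_assoc, hMP, ← mul_assoc, ih, pow_succ, mul_assoc]
  have hDn : ∀ n : ℕ, D ^ n = !![(z : K) ^ n, 0; 0, ((z : K)⁻¹) ^ n] := by
    intro n
    induction n with
    | zero => ext i j; fin_cases i <;> fin_cases j <;> simp
    | succ n ih =>
      rw [pow_succ, ih]
      ext i j
      fin_cases i <;> fin_cases j <;> simp [hD, Matrix.mul_apply, Fin.sum_univ_two, pow_succ]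
  have hdet : IsUnit P := by
    rw [Matrix.isUnit_iff_isUnit_det, isUnit_iff_ne_zero]
    simp [hP, Matrix.det_fin_two]
    rw [sub_eq_zero]
    exact fun h => hne h.symm
  rw [← hzo]
  refine orderOf_eq_orderOf_iff.2 fun n => ⟨fun e => ?_, fun e => ?_⟩
  · have h1 := hpowMP n
    have h2 : M ^ n = 1 := by
      rw [hM, ← RingHom.mapMatrix_apply, ← map_pow, ← mat_pow, e, mat_one, map_one]
    rw [h2, one_mul] at h1
    have h3 : D ^ n = 1 := hdet.mul_left_cancel (h1.symm.trans (mul_one P).symm)
    have h4 := congrFun (congrFun (hDn n) 0) 0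
    rw [h3] at h4
    simp at h4
    exact Units.ext (by rw [Units.val_pow_eq_pow_val, ← h4, Units.val_one])
  · have h1 := hpowMP n
    have h2 : D ^ n = 1 := by
      rw [hDn]
      have : (z : K) ^ n = 1 := by rw [← Units.val_pow_eq_pow_val, e, Units.val_one]
      ext i j; fin_cases i <;> fin_cases j <;> simp [inv_pow, this]
    rw [h2, mul_one] at h1
    have h3 : M ^ n = 1 := hdet.mul_right_cancel (h1.trans (one_mul P).symm)
    rw [hM, ← RingHom.mapMatrix_apply, ← map_pow, ← mat_pow] at h3
    refine mat_inj ?_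
    rw [mat_one]
    exact Matrix.map_injective (algebraMap F K).injective
      (h3.trans (Matrix.map_one _ (map_zero _) (map_one _)).symm)

omit [Fintype F] [Fintype K] in
/-- A root of the quadratic in the extension gives a diagonalising element. -/
theorem conj_dia2 (g : SpecialLinearGroup (Fin 2) F) (ht : tau g ≠ 0) {l : Kˣ}
    (hl : (l : K) ^ 2 + algebraMap F K (tau g) * l + 1 = 0) :
    ∃ h : SpecialLinearGroup (Fin 2) K, Matrix.SpecialLinearGroup.map (algebraMap F K) g * h = h * dia2 l := by
  classical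
  haveI : CharP K 2 := charP_of_injective_algebraMap (algebraMap F K).injective 2
  have h2 : (2 : K) = 0 := CharP.cast_eq_zero K 2
  set f := algebraMap F K
  set a := f (mat g 0 0) with ha
  set b := f (mat g 0 1) with hb
  set c := f (mat g 1 0) with hc
  set d := f (mat g 1 1) with hd
  have hdet : a * d - b * c = 1 := by rw [ha, hb, hc, hd, ← map_mul, ← map_mul, ← map_sub, mat_det, map_one]
  have htau : f (tau g) = a + d := by rw [tau, map_add]
  rw [htau] at hl
  obtain ⟨L, hL⟩ : ∃ L, L = (l : K) := ⟨_, rfl⟩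
  obtain ⟨L', hL'⟩ : ∃ L', L' = ((l⁻¹ : Kˣ) : K) := ⟨_, rfl⟩
  have hLL : L * L' = 1 := by rw [hL, hL', ← Units.val_mul, mul_inv_cancel, Units.val_one]
  rw [← hL] at hl
  have hl' : L' ^ 2 + (a + d) * L' + 1 = 0 := by
    linear_combination L' ^ 2 * hl - ((L * L' + 1) + (a + d) * L') * hLL
  have hne : L + L' ≠ 0 := by
    intro h0
    have e : a + d = 0 := by
      have : (a + d) * L = 0 := by linear_combination hl - L * h0 + hLL
      exact (mul_eq_zero.1 this).resolve_right (by rw [hL]; exact l.ne_zero)
    exact ht (f.injective (by rw [htau, e, map_zero]))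
  have hG : mat (Matrix.SpecialLinearGroup.map f g) = !![a, b; c, d] := by
    rw [map_mat]
    exact Matrix.eta_fin_two _
  have mk : ∀ (M : Matrix (Fin 2) (Fin 2) K), M.det = 1 → !![a, b; c, d] * M = M * !![L, 0; 0, L'] →
      ∃ h : SpecialLinearGroup (Fin 2) K,
        Matrix.SpecialLinearGroup.map (algebraMap F K) g * h = h * dia2 l := by
    intro M hM e
    obtain ⟨h, hh⟩ : ∃ h : SpecialLinearGroup (Fin 2) K, mat h = M := ⟨⟨M, hM⟩, rfl⟩
    refine ⟨h, mat_inj ?_⟩
    rw [mat_mul, mat_mul, hh, hG, e, hL, hL']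
    rfl
  -- eigenvectors
  by_cases hb0 : b = 0
  · by_cases hla : L = a
    · have hd' : d = L' := by
        rw [hb0, zero_mul, sub_zero, ← hla] at hdet
        exact mul_left_cancel₀ (by rw [hL]; exact l.ne_zero) (hdet.trans hLL.symm)
      refine mk !![1, 0; c / (L + L'), 1] (by simp [Matrix.det_fin_two]) ?_
      ext i j
      fin_cases i <;> fin_cases j <;> simp [Matrix.mul_apply, Fin.sum_univ_two, hb0, ← hla, hd']
      field_simp
      linear_combination c * L' * h2
    · have hld : L = d := by
        have : (L - a) * (L - d) = 0 := by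
          linear_combination hl + hdet + c * hb0 - L * (a + d) * h2
        exact sub_eq_zero.1 ((mul_eq_zero.1 this).resolve_left (sub_ne_zero.2 hla))
      have ha' : a = L' := by
        rw [hb0, zero_mul, sub_zero, ← hld, mul_comm] at hdet
        exact mul_left_cancel₀ (by rw [hL]; exact l.ne_zero) (hdet.trans hLL.symm)
      refine mk !![0, 1; 1, c / (L + L')] (by simp [Matrix.det_fin_two, CharTwo.neg_eq]) ?_
      ext i j
      fin_cases i <;> fin_cases j <;> simp [Matrix.mul_apply, Fin.sum_univ_two, hb0, ← hld, ha']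
      field_simp
      linear_combination c * L * h2
  · set e := b * (L + L') with he
    have he0 : e ≠ 0 := mul_ne_zero hb0 hne
    refine mk !![b, b / e; L + a, (L' + a) / e] ?_ ?_
    · simp [Matrix.det_fin_two]
      field_simp
      rw [he]
      linear_combination (-b * L) * h2
    · ext i j
      fin_cases i <;> fin_cases j <;> simp [Matrix.mul_apply, Fin.sum_univ_two]
      · linear_combination b * a * h2
      · field_simp
        linear_combination a * h2
      · linear_combination -hl - hdet + d * (L + a) * h2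
      · field_simp
        linear_combination -hl' - hdet + d * (L' + a) * h2

end Cfsg.Lib.GTwoOrd
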