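import Cfsg.Agent.Chev.GTwoInv.Cent

/-!
Elements of orders eight, twelve and three of `G₂(2)`, by matrices over the field with two elements.
-/

set_option autoImplicit false
set_option maxRecDepth 100000

open Cfsg.Lie

namespace Cfsg.Lib.GTwoOrd

/-- The position of a coordinate. -/
def pos : chevG2.Idx → ℕ
  | Sum.inl i => i.val
  | Sum.inr r => 2 + r.val

/-- A matrix over the field with two elements from its rows. -/
def ofRows (L : List ℕ) : Matrix chevG2.Idx chevG2.Idx (ZMod 2) :=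
  Matrix.of fun i j => if (L.getD (pos i) 0).testBit (pos j) then 1 else 0

/-- The root elements at one. -/
def xm (r : Fin chevG2.nroots) : Matrix chevG2.Idx chevG2.Idx (ZMod 2) := chevG2.xMat (ZMod 2) r 1

/-- A matrix of rows. -/
def eA : Matrix chevG2.Idx chevG2.Idx (ZMod 2) := ofRows [65, 186, 4, 12, 24, 40, 104, 184, 505, 578, 1858, 2304, 7424, 15616]

/-- A matrix of rows. -/
def eB : Matrix chevG2.Idx chevG2.Idx (ZMod 2) := ofRows [41, 62, 4, 8, 20, 36, 76, 132, 340, 656, 1067, 2297, 4795, 12219]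

/-- A matrix of rows. -/
def eC : Matrix chevG2.Idx chevG2.Idx (ZMod 2) := ofRows [5, 2, 4, 8, 16, 32, 64, 128, 264, 512, 1040, 2080, 4224, 8198]

/-- A matrix of rows. -/
def tA : Matrix chevG2.Idx chevG2.Idx (ZMod 2) := ofRows [9289, 2051, 15435, 8448, 10304, 6673, 9216, 4772, 256, 4128, 8256, 2065, 4644, 9288]

/-- A matrix of rows. -/
def tB : Matrix chevG2.Idx chevG2.Idx (ZMod 2) := ofRows [9537, 9307, 14199, 9544, 2137, 1564, 1032, 14074, 256, 2101, 72, 1048, 9310, 264]

/-- A matrix of rows. -/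
def tC : Matrix chevG2.Idx chevG2.Idx (ZMod 2) := ofRows [8457, 10563, 4107, 8448, 2112, 4635, 9472, 4239, 256, 6251, 8512, 11609, 15221, 9288]

/-- A matrix of rows. -/
def tD : Matrix chevG2.Idx chevG2.Idx (ZMod 2) := ofRows [1, 258, 12, 8, 16, 96, 64, 385, 256, 1536, 1024, 2048, 12288, 8192]

/-- A matrix of rows. -/
def vA : Matrix chevG2.Idx chevG2.Idx (ZMod 2) := ofRows [3, 2, 4, 128, 32, 16, 512, 8, 4096, 64, 2048, 1024, 256, 8192]

/-- A matrix of rows. -/
def vB : Matrix chevG2.Idx chevG2.Idx (ZMod 2) := ofRows [1, 3, 8, 4, 16, 64, 32, 256, 128, 1024, 512, 2048, 8192, 4096]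

/-- A matrix of rows. -/
def vC : Matrix chevG2.Idx chevG2.Idx (ZMod 2) := ofRows [2, 3, 8, 256, 64, 16, 1024, 4, 8192, 32, 2048, 512, 128, 4096]

/-- A matrix of rows. -/
def wA : Matrix chevG2.Idx chevG2.Idx (ZMod 2) := ofRows [3, 1, 256, 8192, 1024, 64, 2048, 8, 4096, 16, 512, 32, 4, 128]

/-- A matrix of rows. -/
def wB : Matrix chevG2.Idx chevG2.Idx (ZMod 2) := ofRows [2, 3, 4096, 128, 512, 2048, 32, 8192, 4, 1024, 16, 64, 256, 8]

theorem eA_eq : xm ⟨6, by decide⟩ * xm ⟨7, by decide⟩ = eA := by decide +kernel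

theorem eA_sq : eA * eA = eB := by decide +kernel

theorem eB_sq : eB * eB = eC := by decide +kernel

theorem eC_sq : eC * eC = 1 ∧ eC ≠ 1 := by decide +kernel

theorem tA_eq : xm ⟨0, by decide⟩ * xm ⟨2, by decide⟩ * xm ⟨9, by decide⟩ = tA := by decide +kernel

theorem tA_sq : tA * tA = tB := by decide +kernel

theorem tB_sq : tB * tB = tC ∧ tC ≠ 1 := by decide +kernel

theorem tC_tB : tC * tB = tD := by decide +kernel

theorem tD_sq : tD * tD = 1 ∧ tD ≠ 1 := by decide +kernel

theorem vA_eq : xm ⟨7, by decide⟩ * xm ⟨4, by decide⟩ * xm ⟨7, by decide⟩ = vA := by decide +kernel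

theorem vB_eq : xm ⟨6, by decide⟩ * xm ⟨5, by decide⟩ * xm ⟨6, by decide⟩ = vB := by decide +kernel

theorem vC_eq : vA * vB = vC := by decide +kernel

theorem vC_sq : vC * vC = wA ∧ wA ≠ 1 := by decide +kernel

theorem wA_sq : wA * wA = wB := by decide +kernel

theorem wB_wA : wB * wA = 1 := by decide +kernel

end Cfsg.Lib.GTwoOrd
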