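import Cfsg.Agent.Chev.GTwoInv.Cent
import Cfsg.Agent.Chev.GTwoOrders.SLTwo
import Cfsg.Agent.Chev.GTwoOrders.Witness
import Cfsg.Agent.Chev.Types
import Cfsg.Agent.Chev.Springer.Main

/-!
The root `SL₂` subgroups of `G₂` in characteristic two and extension of scalars.
-/

set_option autoImplicit false
set_option linter.unusedSectionVars false

open Cfsg.Lie

namespace Cfsg.Lib.GTwoOrd

open Cfsg.Lib.Chev Cfsg.Lib.GTwoInv

variable {F : Type*} [Field F] [CharP F 2]

theorem sl2_gen (g : Matrix.SpecialLinearGroup (Fin 2) F) :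
    g ∈ Subgroup.closure (Set.range (uM (F := F)) ∪ Set.range (lM (F := F))) := by
  set R := Subgroup.closure (Set.range (uM (F := F)) ∪ Set.range (lM (F := F)))
  have hu : ∀ t : F, uM t ∈ R := fun t => Subgroup.subset_closure (Or.inl ⟨t, rfl⟩)
  have hl : ∀ t : F, lM t ∈ R := fun t => Subgroup.subset_closure (Or.inr ⟨t, rfl⟩)
  have hgen : ∀ h : Matrix.SpecialLinearGroup (Fin 2) F, mat h 1 0 ≠ 0 → h ∈ R := by
    intro h hc
    have hd := mat_det h
    have : h = uM ((mat h 0 0 - 1) / mat h 1 0) * lM (mat h 1 0) * uM ((mat h 1 1 - 1) / mat h 1 0) := by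
      apply mat_inj
      rw [Matrix.eta_fin_two (mat h)]
      ext i j
      fin_cases i <;> fin_cases j <;>
        simp [mat_mul, mat_uM, mat_lM, Matrix.mul_apply, Fin.sum_univ_two] <;> field_simp
      all_goals first | ring1 | linear_combination hd | linear_combination -hd
    rw [this]
    exact mul_mem (mul_mem (hu _) (hl _)) (hu _)
  by_cases hc : mat g 1 0 = 0
  · have hd := mat_det g
    rw [hc, mul_zero, sub_zero] at hd
    have : mat (g * lM 1) 1 0 = mat g 1 1 := by simp [mat_mul, mat_lM, Matrix.mul_apply, Fin.sum_univ_two, hc]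
    have h1 := hgen (g * lM 1) (by rw [this]; exact right_ne_zero_of_mul (by rw [hd]; exact one_ne_zero))
    exact (mul_mem_cancel_right (hl 1)).1 h1
  · exact hgen g hc

theorem hom_ext {G : Type*} [Group G] {φ ψ : Matrix.SpecialLinearGroup (Fin 2) F →* G}
    (hu : ∀ t, φ (uM t) = ψ (uM t)) (hl : ∀ t, φ (lM t) = ψ (lM t))
    (g : Matrix.SpecialLinearGroup (Fin 2) F) : φ g = ψ g := by
  refine MonoidHom.eqOn_closure ?_ (sl2_gen g)
  rintro z (⟨t, rfl⟩ | ⟨t, rfl⟩)
  exacts [hu t, hl t]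

/-- A root homomorphism. -/
structure IsRootHom (r : ℕ) (φ : Matrix.SpecialLinearGroup (Fin 2) F →* GL chevG2.Idx F) : Prop where
  upper : ∀ t, φ (uM t) = x r t
  lower : ∀ t, φ (lM t) = x (chevG2.neg r) t

theorem exists_rootHom (r : ℕ) (hr : r < 12) :
    ∃ φ : Matrix.SpecialLinearGroup (Fin 2) F →* GL chevG2.Idx F, IsRootHom r φ := by
  obtain ⟨φ, h1, h2, -⟩ := S2.hasSL2 (F := F) r (half_eq.2.symm ▸ hr)
  exact ⟨φ, h1, h2⟩

namespace IsRootHom

variable {r : ℕ} {φ : Matrix.SpecialLinearGroup (Fin 2) F →* GL chevG2.Idx F}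

theorem mem (h : IsRootHom r φ) {R : Subgroup (GL chevG2.Idx F)} (h1 : ∀ t, x r t ∈ R)
    (h2 : ∀ t, x (chevG2.neg r) t ∈ R) (g : Matrix.SpecialLinearGroup (Fin 2) F) : φ g ∈ R := by
  have h3 : Subgroup.closure (Set.range (uM (F := F)) ∪ Set.range (lM (F := F))) ≤ R.comap φ := by
    refine (Subgroup.closure_le _).2 ?_
    rintro z (⟨t, rfl⟩ | ⟨t, rfl⟩)
    · show φ _ ∈ R
      rw [h.upper]; exact h1 t
    · show φ _ ∈ R
      rw [h.lower]; exact h2 t
  exact h3 (sl2_gen g)

theorem mem_group (h : IsRootHom r φ) (g : Matrix.SpecialLinearGroup (Fin 2) F) : φ g ∈ chevG2.group F :=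
  h.mem (x_mem r) (x_mem _) g

theorem comm (h : IsRootHom r φ) {z : GL chevG2.Idx F} (h1 : ∀ t, z * x r t = x r t * z)
    (h2 : ∀ t, z * x (chevG2.neg r) t = x (chevG2.neg r) t * z) (g : Matrix.SpecialLinearGroup (Fin 2) F) :
    z * φ g = φ g * z :=
  Subgroup.mem_centralizer_iff.1 (h.mem (R := Subgroup.centralizer {z})
    (fun t => Subgroup.mem_centralizer_iff.2 fun y hy => by rw [Set.mem_singleton_iff.1 hy]; exact h1 t)
    (fun t => Subgroup.mem_centralizer_iff.2 fun y hy => by rw [Set.mem_singleton_iff.1 hy]; exact h2 t) g) z rfl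

theorem inj (h : IsRootHom r φ) (hr : 6 ≤ r) (hr' : r < 12) (hn : chevG2.neg r < 6) :
    Function.Injective φ := by
  rw [injective_iff_map_eq_one]
  have key : ∀ g, φ g = 1 → mat g 1 0 = 0 := by
    intro g hg
    by_contra hc
    have hd := mat_det g
    have hdec : g = uM ((mat g 0 0 - 1) / mat g 1 0) * lM (mat g 1 0) * uM ((mat g 1 1 - 1) / mat g 1 0) := by
      apply mat_inj
      rw [Matrix.eta_fin_two (mat g)]
      ext i j
      fin_cases i <;> fin_cases j <;>
        simp [mat_mul, mat_uM, mat_lM, Matrix.mul_apply, Fin.sum_univ_two] <;> field_simp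
      all_goals first | ring1 | linear_combination hd | linear_combination -hd
    rw [hdec, map_mul, map_mul, h.upper, h.upper, h.lower, mul_eq_one_iff_eq_inv, x_inv] at hg
    have hU : x (chevG2.neg r) (mat g 1 0) ∈ chevG2.posUnipotent F := by
      have hmem : ∀ t : F, x r t ∈ chevG2.posUnipotent F := fun t =>
        S2.xG_mem_U (by rw [half_eq.1]; exact hr) (by rw [half_eq.2]; exact hr') t
      have : x (chevG2.neg r) (mat g 1 0) =
          (x r ((mat g 0 0 - 1) / mat g 1 0))⁻¹ * x r ((mat g 1 1 - 1) / mat g 1 0) := by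
        rw [← hg]; group
      rw [this]
      exact mul_mem (inv_mem (hmem _)) (hmem _)
    have hV : x (chevG2.neg r) (mat g 1 0) ∈ chevG2.negUnipotent F :=
      Subgroup.subset_closure ⟨_, _, S2.isNeg_iff.2 (by rw [half_eq.1]; exact hn), S2.ok.val_xG _ _⟩
    have h1 : x (chevG2.neg r) (mat g 1 0) ∈ chevG2.borelSubgroup F ⊓ chevG2.negUnipotent F :=
      Subgroup.mem_inf.2 ⟨S2.B_le_of hU, hV⟩
    rw [S2.B_inf_V okNeg_G2, Subgroup.mem_bot] at h1
    exact hc (S2.xG_eq_one (by rw [half_eq.2]; omega) h1)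
  intro g hg
  have hc := key g hg
  have hb : mat g 0 1 = 0 := by
    have := key (wM * g * wM⁻¹) (by rw [map_mul, map_mul, hg, mul_one, ← map_mul, mul_inv_cancel, map_one])
    have hwi : mat (wM : Matrix.SpecialLinearGroup (Fin 2) F)⁻¹ = !![0, -1; 1, 0] := by
      show Matrix.adjugate (mat (wM : Matrix.SpecialLinearGroup (Fin 2) F)) = _
      rw [mat_wM, Matrix.adjugate_fin_two_of]; simp
    rw [mat_mul, mat_mul, hwi, mat_wM] at this
    rw [Matrix.eta_fin_two (mat g)] at this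
    simpa [Matrix.mul_apply, Fin.sum_univ_two] using this
  have hd := mat_det g
  rw [hc, hb, mul_zero, sub_zero] at hd
  have hconj : g * uM 1 = uM (mat g 0 0 ^ 2) * g := by
    apply mat_inj
    rw [mat_mul, mat_mul]
    ext i j
    fin_cases i <;> fin_cases j <;> simp [mat_uM, Matrix.mul_apply, Fin.sum_univ_two, hc, hb]
    linear_combination -mat g 0 0 * hd
  have h1 := congrArg φ hconj
  rw [map_mul, map_mul, hg, mul_one, one_mul, h.upper, h.upper] at h1
  have h2 : mat g 0 0 ^ 2 + 1 = 0 := by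
    refine S2.xG_eq_one (r := r) (by rw [half_eq.2]; exact hr') ?_
    show x r (mat g 0 0 ^ 2 + 1) = 1
    rw [← x_add, ← h1, x_add, show (1 : F) + 1 = 0 by linear_combination two' (F := F), x_zero]
  have ha : mat g 0 0 = 1 := by
    have : (mat g 0 0 + 1) ^ 2 = 0 := by linear_combination h2 + mat g 0 0 * two' (F := F)
    have h3 := (pow_eq_zero_iff two_ne_zero).1 this
    linear_combination h3 - two' (F := F)
  refine mat_inj ?_
  rw [mat_one, Matrix.eta_fin_two (mat g), Matrix.one_fin_two, hc, hb, ha]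
  rw [ha, one_mul] at hd
  rw [hd]

theorem map_dia2 (h : IsRootHom r φ) (l : Fˣ) : φ (dia2 l) = S2.ok.hG r (l : F) := by
  have e : dia2 l = uM (l : F) * lM (-(l : F)⁻¹) * uM (l : F) * (uM (-1) * lM (-(-1 : F)⁻¹) * uM (-1)) := by
    apply mat_inj
    rw [mat_mul, mat_mul, mat_mul, mat_mul, mat_mul, mat_uM, mat_uM, mat_lM, mat_lM,
      show mat (dia2 l) = !![(l : F), 0; 0, ((l⁻¹ : Fˣ) : F)] from rfl]
    ext i j
    fin_cases i <;> fin_cases j <;>
      simp [Matrix.mul_apply, Fin.sum_univ_two, Units.val_inv_eq_inv_val]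
  rw [e]
  simp only [map_mul, h.upper, h.lower]
  rfl

end IsRootHom

section Ext

variable {K : Type*} [Field K] [CharP K 2] [Algebra F K]

theorem ext_x (r : ℕ) (t : F) :
    Springer.ext chevG2 F K (x r t) = x r (algebraMap F K t) := Springer.ext_xG S2 r t

theorem ext_rootHom {r : ℕ} {φ : Matrix.SpecialLinearGroup (Fin 2) F →* GL chevG2.Idx F}
    {ψ : Matrix.SpecialLinearGroup (Fin 2) K →* GL chevG2.Idx K} (h : IsRootHom r φ) (h' : IsRootHom r ψ)
    (g : Matrix.SpecialLinearGroup (Fin 2) F) :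
    Springer.ext chevG2 F K (φ g) = ψ (Matrix.SpecialLinearGroup.map (algebraMap F K) g) := by
  refine hom_ext (φ := (Springer.ext chevG2 F K).comp φ)
    (ψ := ψ.comp (Matrix.SpecialLinearGroup.map (algebraMap F K))) (fun t => ?_) (fun t => ?_) g
  · have e : Matrix.SpecialLinearGroup.map (algebraMap F K) (uM t) = uM (algebraMap F K t) := by
      apply mat_inj
      rw [map_mat]
      ext i j; fin_cases i <;> fin_cases j <;> simp [mat_uM]
    rw [MonoidHom.comp_apply, MonoidHom.comp_apply, h.upper, ext_x, e, h'.upper]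
  · have e : Matrix.SpecialLinearGroup.map (algebraMap F K) (lM t) = lM (algebraMap F K t) := by
      apply mat_inj
      rw [map_mat]
      ext i j; fin_cases i <;> fin_cases j <;> simp [mat_lM]
    rw [MonoidHom.comp_apply, MonoidHom.comp_apply, h.lower, ext_x, e, h'.lower]

end Ext

/-- A diagonal element commuting with the two standard involutions is trivial. -/
theorem diag_eq_one {d : GL chevG2.Idx F} (hd : d ∈ chevG2.diagonalSubgroup F)
    (h9 : d * x 9 1 * d⁻¹ = x 9 1) (h11 : d * x 11 1 * d⁻¹ = x 11 1) : d = 1 := by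
  obtain ⟨c₀, c₁, rfl⟩ := exists_tor hd
  rw [tor_x9, mul_one, (x_eq_mk (c₀ : F)).2.2.2.1, (x_eq_mk (1 : F)).2.2.2.1] at h9
  rw [tor_x11, mul_one, (x_eq_mk (c₁ : F)).2.2.2.2.2, (x_eq_mk (1 : F)).2.2.2.2.2] at h11
  obtain rfl : c₀ = 1 := Units.ext (mk_inj h9).2.2.2.1
  obtain rfl : c₁ = 1 := Units.ext (mk_inj h11).2.2.2.2.2
  show Ok.tG chevG2 F _ = 1
  rw [show (![1, 1] : Fin 2 → Fˣ) = (1 : Fin 2 → Fˣ) by funext i; fin_cases i <;> rfl]
  exact map_one _

/-- The element of order three in the normaliser of the torus. -/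
noncomputable def ww (F : Type*) [Field F] : GL chevG2.Idx F := nn F 0 * nn F 1 * (nn F 0 * nn F 1)

theorem ww_mem : ww F ∈ chevG2.group F :=
  mul_mem (mul_mem (nn_mem 0) (nn_mem 1)) (mul_mem (nn_mem 0) (nn_mem 1))

theorem ww_mono : ww F ∈ chevG2.monomialSubgroup F :=
  mul_mem (mul_mem (S2.nG_mem_mono i0) (S2.nG_mem_mono i1)) (mul_mem (S2.nG_mem_mono i0) (S2.nG_mem_mono i1))

theorem val_x {r : ℕ} (hr : r < chevG2.nroots) (t : F) :
    (x r t : Matrix chevG2.Idx chevG2.Idx F) = chevG2.xMat F ⟨r, hr⟩ t := by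
  show (S2.ok.xG r t : Matrix chevG2.Idx chevG2.Idx F) = _
  rw [S2.ok.val_xG]
  exact dif_pos hr

omit [CharP F 2] in
theorem val_x_two {r : ℕ} (hr : r < chevG2.nroots) :
    (x r (1 : ZMod 2) : Matrix chevG2.Idx chevG2.Idx (ZMod 2)) = xm ⟨r, hr⟩ := val_x hr 1

omit [CharP F 2] in
theorem val_ww : (ww (ZMod 2) : Matrix chevG2.Idx chevG2.Idx (ZMod 2)) = wA := by
  have h0 : nn (ZMod 2) 0 = x 7 1 * x 4 1 * x 7 1 := by
    show x (chevG2.simple 0) (1 : ZMod 2) * x (chevG2.neg (chevG2.simple 0)) (-1⁻¹) * x (chevG2.simple 0) 1 = _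
    rw [show chevG2.simple 0 = 7 by decide +kernel, show chevG2.neg 7 = 4 by decide +kernel, inv_one, neg']
  have h1 : nn (ZMod 2) 1 = x 6 1 * x 5 1 * x 6 1 := by
    show x (chevG2.simple 1) (1 : ZMod 2) * x (chevG2.neg (chevG2.simple 1)) (-1⁻¹) * x (chevG2.simple 1) 1 = _
    rw [show chevG2.simple 1 = 6 by decide +kernel, show chevG2.neg 6 = 5 by decide +kernel, inv_one, neg']
  rw [ww, h0, h1]
  simp only [Units.val_mul]
  rw [val_x_two (r := 7) (by rw [half_eq.2]; norm_num), val_x_two (r := 4) (by rw [half_eq.2]; norm_num),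
    val_x_two (r := 6) (by rw [half_eq.2]; norm_num), val_x_two (r := 5) (by rw [half_eq.2]; norm_num), vA_eq,
    vB_eq, vC_eq, vC_sq.1]

theorem ww_pow [Algebra (ZMod 2) F] : ww F ^ 3 = 1 := by
  have h : ww (ZMod 2) ^ 3 = 1 := by
    refine Units.ext ?_
    rw [pow_succ, pow_two, Units.val_mul, Units.val_mul, val_ww, wA_sq, wB_wA, Units.val_one]
  have e : Springer.ext chevG2 (ZMod 2) F (ww (ZMod 2)) = ww F := by
    have hn : ∀ i, Springer.ext chevG2 (ZMod 2) F (nn (ZMod 2) i) = nn F i := by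
      intro i
      show Springer.ext chevG2 (ZMod 2) F (x _ (1 : ZMod 2) * x _ (-1⁻¹) * x _ 1) = x _ (1 : F) * x _ (-1⁻¹) * x _ 1
      rw [map_mul, map_mul, ext_x, ext_x]
      simp only [map_one, map_neg, map_inv₀]
    simp only [ww, map_mul, hn]
  rw [← e, ← map_pow, h, map_one]

/-- The action of the element of order three on the roots. -/
noncomputable def rot (r : ℕ) : ℕ := G2.cert.w 0 (G2.cert.w 1 (G2.cert.w 0 (G2.cert.w 1 r)))

theorem rot_lt : ∀ r < 12, rot r < 12 := by decide +kernel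

theorem rot_cube : ∀ r < 12, rot (rot (rot r)) = r := by decide +kernel

theorem rot_sum : ∀ r < 12, chevG2.cartan 0 r + chevG2.cartan 0 (rot r) + chevG2.cartan 0 (rot (rot r)) = 0 ∧
    chevG2.cartan 1 r + chevG2.cartan 1 (rot r) + chevG2.cartan 1 (rot (rot r)) = 0 := by decide +kernel

theorem rot_eleven : rot 11 < 6 ∧ rot (rot 11) < 6 := by decide +kernel

theorem w_lt : ∀ r < 12, G2.cert.w 0 r < 12 ∧ G2.cert.w 1 r < 12 := by decide +kernel

theorem ww_conj {r : ℕ} (hr : r < 12) (t : F) : ww F * x r t * (ww F)⁻¹ = x (rot r) t := by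
  have h1 := (w_lt r hr).2
  have h2 := (w_lt _ h1).1
  have h3 := (w_lt _ h2).2
  calc ww F * x r t * (ww F)⁻¹
      = nn F 0 * (nn F 1 * (nn F 0 * (nn F 1 * x r t * (nn F 1)⁻¹) * (nn F 0)⁻¹) * (nn F 1)⁻¹) * (nn F 0)⁻¹ := by
        rw [ww]; group
    _ = x (rot r) t := by
        rw [nn_conj (by norm_num) hr, nn_conj (by norm_num) h1, nn_conj (by norm_num) h2,
          nn_conj (by norm_num) h3]
        rfl

end Cfsg.Lib.GTwoOrd
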