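import Cfsg.Agent.Chev.GTwoOrders.Basic
import Cfsg.Agent.Chev.Springer.TorusAt
import Cfsg.Agent.Chev.Springer.SylowData
import Cfsg.Agent.Chev.Springer.AllData
import Mathlib.GroupTheory.Sylow

/-!
Element orders of `G₂`, characteristic two: the odd orders.
-/

set_option autoImplicit false
set_option linter.unusedSectionVars false

open Cfsg.Lie

namespace Cfsg.Lib.GTwoOrd

open Cfsg.Lib.Chev Cfsg.Lib.GTwoInv Polynomial
open scoped Pointwise

variable {F : Type*} [Field F] [CharP F 2] [Fintype F]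

theorem card_group :
    Nat.card ↥(chevG2.group F) =
      Fintype.card F ^ 6 * (Fintype.card F ^ 2 - 1) * (Fintype.card F ^ 6 - 1) := by
  have h := G2.struct.order_formula (F := F) okNeg_G2 G2.poincare rfl (G2.card_torus rfl)
  rw [show chevG2.nroots / 2 = 6 from rfl] at h
  simp only [List.map_cons, List.map_nil, List.prod_cons, List.prod_nil, mul_one, one_mul, ← mul_assoc] at h
  linear_combination h

theorem six_split {q : ℕ} (hq : 1 ≤ q) :
    q ^ 6 - 1 = (q ^ 2 - 1) * (q ^ 4 + q ^ 2 + 1) := by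
  obtain ⟨k, hk⟩ : ∃ k, q ^ 2 = k + 1 := ⟨q ^ 2 - 1, by have := Nat.one_le_pow 2 q hq; omega⟩
  rw [show q ^ 6 = (q ^ 2) ^ 3 by ring, show q ^ 4 = (q ^ 2) ^ 2 by ring, hk, Nat.add_sub_cancel]
  ring_nf
  omega

theorem four_split {q : ℕ} (hq : 1 ≤ q) :
    q ^ 4 + q ^ 2 + 1 = (q ^ 2 + q + 1) * (q ^ 2 - q + 1) := by
  obtain ⟨k, hk⟩ : ∃ k, q = k + 1 := ⟨q - 1, by omega⟩
  subst hk
  rw [show (k + 1) ^ 2 - (k + 1) = k ^ 2 + k by ring_nf; omega]
  ring

theorem not_nine_dvd (q : ℕ) : ¬ 9 ∣ q ^ 2 + q + 1 := by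
  intro h
  rw [← Nat.modEq_zero_iff_dvd, ← ZMod.natCast_eq_natCast_iff] at h
  push_cast at h
  generalize (q : ZMod 9) = a at h
  revert a
  decide

theorem not_nine_dvd' (q : ℕ) : ¬ 9 ∣ q ^ 2 - q + 1 := by
  intro h
  rw [← Nat.modEq_zero_iff_dvd, ← ZMod.natCast_eq_natCast_iff] at h
  push_cast [Nat.cast_sub (Nat.le_self_pow two_ne_zero q)] at h
  generalize (q : ZMod 9) = a at h
  revert a
  decide

theorem not_two_dvd {r : ℕ} (hr : r ≠ 2) (hr3 : r ≠ 3) (hp : r.Prime) : ¬ r ∣ 12 := by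
  intro h
  rw [show 12 = 2 ^ 2 * 3 by norm_num] at h
  rcases hp.dvd_mul.1 h with h | h
  · exact hr ((Nat.prime_dvd_prime_iff_eq hp Nat.prime_two).1 (hp.dvd_of_dvd_pow h))
  · exact hr3 ((Nat.prime_dvd_prime_iff_eq hp Nat.prime_three).1 h)

/-- The centraliser of an element of a primitive prime order. -/
theorem torus_cent {N e : ℕ} (he : e = 3 ∨ e = 6)
    (hN : (e = 3 → N = Fintype.card F ^ 2 + Fintype.card F + 1) ∧
      (e = 6 → N = Fintype.card F ^ 2 - Fintype.card F + 1))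
    {r : ℕ} (hr : r.Prime) (hr2 : r ≠ 2) (hr3 : r ≠ 3) (hrN : r ∣ N)
    (x0 : ↥(chevG2.group F)) (hx0 : orderOf x0 = r) :
    IsCyclic ↥(Subgroup.centralizer ({x0} : Set ↥(chevG2.group F))) ∧
      Nat.card ↥(Subgroup.centralizer ({x0} : Set ↥(chevG2.group F))) = N := by
  set q := Fintype.card F with hq
  have hq1 : 1 ≤ q := Fintype.card_pos
  have hW : ¬ r ∣ Nat.card ↥Springer.G2_dat.S.WG := by
    rw [Springer.G2_natCard_WG]
    exact not_two_dvd hr2 hr3 hr
  have hre : ¬ r ∣ e := fun h => not_two_dvd hr2 hr3 hr (h.trans (by rcases he with rfl | rfl <;> norm_num))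
  have hev : (cyclotomic e ℤ).eval (q : ℤ) = N := by
    rcases he with rfl | rfl
    · rw [cyclotomic_three, hN.1 rfl]
      simp
    · rw [cyclotomic_six, hN.2 rfl, Nat.cast_add, Nat.cast_sub (Nat.le_self_pow two_ne_zero q)]
      simp
  have hN0 : N ≠ 0 := by rcases he with rfl | rfl <;> [rw [hN.1 rfl]; rw [hN.2 rfl]] <;> omega
  have hbad : ∀ ℓ : ℕ, ℓ.Prime → ℓ ∣ N → ¬ ℓ ∣ e ∨ ¬ ℓ ^ 2 ∣ N := by
    intro l hl hlN
    by_cases h3 : l = 3
    · subst h3
      refine Or.inr ?_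
      rcases he with rfl | rfl
      · rw [hN.1 rfl]; exact not_nine_dvd q
      · rw [hN.2 rfl]; exact not_nine_dvd' q
    refine Or.inl fun hle => ?_
    rcases he with rfl | rfl
    · exact h3 ((Nat.prime_dvd_prime_iff_eq hl Nat.prime_three).1 hle)
    · have hl2 : l = 2 := by
        rw [show 6 = 2 * 3 by norm_num] at hle
        rcases hl.dvd_mul.1 hle with h | h
        · exact (Nat.prime_dvd_prime_iff_eq hl Nat.prime_two).1 h
        · exact absurd ((Nat.prime_dvd_prime_iff_eq hl Nat.prime_three).1 h) h3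
      subst hl2
      rw [hN.2 rfl] at hlN
      have he' : 2 ∣ q ^ 2 - q := by
        rw [pow_two, ← Nat.mul_sub_one]
        exact (Nat.even_mul_pred_self q).two_dvd
      omega
  exact (Springer.torus_at' Springer.G2_dat St.okTorus_G2 (by rcases he with rfl | rfl <;> norm_num)
    (by rcases he with rfl | rfl <;> decide) (by decide) hev hN0 hbad hr hrN hre hW x0 hx0).1

theorem dvd_card_of_commute {G : Type*} [Group G] {g y : G} (h : Commute g y) :
    orderOf g ∣ Nat.card ↥(Subgroup.centralizer ({y} : Set G)) := by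
  rw [← Subgroup.orderOf_mk g (Subgroup.mem_centralizer_singleton_iff.2 h.eq)]
  exact orderOf_dvd_natCard _

/-- Prime powers of a prime above three. -/
theorem order_big {r k : ℕ} (hr : r.Prime) (hr2 : r ≠ 2) (hr3 : r ≠ 3) (hrq : r ∣ Fintype.card F ^ 2 - 1)
    {y : ↥(chevG2.group F)} (hy : orderOf y = r ^ k) : r ^ k ∣ Fintype.card F ^ 2 - 1 := by
  haveI : Fact r.Prime := ⟨hr⟩
  set q := Fintype.card F with hq
  have hq1 : 1 ≤ q := Fintype.card_pos
  have hq2 : 1 ≤ q ^ 2 := Nat.one_le_pow _ _ hq1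
  have hnq : ¬ r ∣ q := by
    intro h
    have h1 : r ∣ q ^ 2 := h.trans (dvd_pow_self q two_ne_zero)
    have := Nat.dvd_sub h1 hrq
    rw [show q ^ 2 - (q ^ 2 - 1) = 1 by omega] at this
    exact hr.one_lt.ne' (Nat.dvd_one.1 this)
  have hd2 : orderOf (q : ZMod r) ∣ 2 := by
    rw [orderOf_dvd_iff_pow_eq_one, ← sub_eq_zero, ← Nat.cast_pow]
    have := (ZMod.natCast_eq_zero_iff _ _).2 hrq
    rwa [Nat.cast_sub hq2, Nat.cast_one] at this
  have hP : IsPGroup r ↥(Subgroup.zpowers y) := IsPGroup.of_card (n := k) (by rw [Nat.card_zpowers, hy])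
  obtain ⟨P, hPy⟩ := hP.exists_le_sylow
  obtain ⟨E⟩ := Springer.sylow_data Springer.G2_dat inv_G2 G2.poincare Springer.G2_natCard_WG (by decide) (by decide)
    (by decide) (fun r hr h => h.trans (one_dvd _)) (G2.card_torus rfl) hnq
    (not_two_dvd hr2 hr3 hr) P
  set M := padicValNat r ((cyclotomic (orderOf (q : ZMod r)) ℤ).eval (q : ℤ)).natAbs with hM
  have hyM : y ^ (r ^ M) = 1 := by
    have h : E ⟨y, hPy (Subgroup.mem_zpowers y)⟩ ^ (r ^ M) = 1 := by
      funext i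
      rw [Pi.pow_apply, Pi.one_apply]
      refine Multiplicative.toAdd.injective ?_
      rw [toAdd_pow, toAdd_one, nsmul_eq_mul]
      exact (congrArg (· * _) (ZMod.natCast_self (r ^ M))).trans (zero_mul _)
    rw [← map_pow, MulEquiv.map_eq_one_iff] at h
    exact congrArg Subtype.val h
  refine (hy ▸ orderOf_dvd_of_pow_eq_one hyM).trans ?_
  refine pow_padicValNat_dvd.trans ?_
  have hsq : q ^ 2 - 1 = (q + 1) * (q - 1) := by
    rw [show (q : ℕ) ^ 2 - 1 = q ^ 2 - 1 ^ 2 by norm_num, Nat.sq_sub_sq]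
  rcases (Nat.dvd_prime Nat.prime_two).1 hd2 with e | e <;> rw [e]
  · rw [cyclotomic_one, eval_sub, eval_X, eval_one,
      show ((q : ℤ) - 1) = ((q - 1 : ℕ) : ℤ) by rw [Nat.cast_sub hq1, Nat.cast_one], Int.natAbs_natCast, hsq]
    exact dvd_mul_left _ _
  · rw [cyclotomic_two, eval_add, eval_X, eval_one,
      show ((q : ℤ) + 1) = ((q + 1 : ℕ) : ℤ) by push_cast; rfl, Int.natAbs_natCast, hsq]
    exact dvd_mul_right _ _

/-- The `3`-torsion part of the torus. -/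
noncomputable def tors (K : Type*) [Field K] (N : ℕ) : Subgroup (GL chevG2.Idx K) :=
  (powMonoidHom N : (Fin chevG2.rank → Kˣ) →* _).ker.map (Ok.tG chevG2 K)

theorem tG_inj (K : Type*) [Field K] : Function.Injective (Ok.tG chevG2 K) :=
  (MonoidHom.ker_eq_bot_iff _).1 (St.torus_ker_trivial G2.struct.ok St.okTorus_G2)

section Three

variable {K : Type*} [Field K] [CharP K 2] [Fintype K]

theorem mem_tors {N : ℕ} {d : GL chevG2.Idx K} :
    d ∈ tors K N ↔ d ∈ chevG2.diagonalSubgroup K ∧ d ^ N = 1 := by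
  rw [S2.ok.diagonalSubgroup_eq]
  constructor
  · rintro ⟨c, hc, rfl⟩
    exact ⟨⟨c, rfl⟩, by rw [← map_pow, show c ^ N = 1 from hc, map_one]⟩
  · rintro ⟨⟨c, rfl⟩, h⟩
    exact ⟨c, tG_inj K (by rw [powMonoidHom_apply, map_pow, map_one, h]), rfl⟩

theorem card_tors {m : ℕ} (hm : 3 ^ m ∣ Fintype.card K - 1) : Nat.card ↥(tors K (3 ^ m)) = 3 ^ (2 * m) := by
  rw [tors, Nat.card_congr (Subgroup.equivMapOfInjective _ _ (tG_inj K)).symm.toEquiv]
  have e : ↥(powMonoidHom (3 ^ m) : (Fin chevG2.rank → Kˣ) →* _).ker ≃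
      (Fin chevG2.rank → ↥(powMonoidHom (3 ^ m) : Kˣ →* Kˣ).ker) :=
    { toFun := fun c i => ⟨c.1 i, congrFun c.2 i⟩
      invFun := fun c => ⟨fun i => (c i).1, funext fun i => (c i).2⟩
      left_inv := fun c => rfl
      right_inv := fun c => rfl }
  rw [Nat.card_congr e, Nat.card_fun, IsCyclic.card_powMonoidHom_ker, Nat.card_units, Nat.card_eq_fintype_card,
    Nat.gcd_eq_right hm, Nat.card_fin, show chevG2.rank = 2 from rfl, ← pow_mul, mul_comm]

theorem diag_ww_cube {d : GL chevG2.Idx K} (hd : d ∈ chevG2.diagonalSubgroup K) : (d * ww K) ^ 3 = 1 := by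
  letI := ZMod.algebra K 2
  have hw3 : ww K * (ww K * ww K) = 1 := by rw [← pow_two, ← pow_succ', ww_pow]
  have hn : (d * ww K) ^ 3 =
      d * (ww K * d * (ww K)⁻¹) * (ww K * (ww K * d * (ww K)⁻¹) * (ww K)⁻¹) := by
    calc (d * ww K) ^ 3 = d * (ww K * d * (ww K)⁻¹) * (ww K * (ww K * d * (ww K)⁻¹) * (ww K)⁻¹) *
          (ww K * (ww K * ww K)) := by rw [pow_succ, pow_two]; group
      _ = _ := by rw [hw3, mul_one]
  have h1 := S2.norm_diag ww_mono hd
  have hmem : (d * ww K) ^ 3 ∈ chevG2.diagonalSubgroup K := by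
    rw [hn]
    exact mul_mem (mul_mem hd h1) (S2.norm_diag ww_mono h1)
  obtain ⟨c₀, c₁, hc⟩ := exists_tor hd
  have hstep : ∀ r < 12, ∀ t : K, (d * ww K) * x r t * (d * ww K)⁻¹ =
      x (rot r) (((c₀ ^ chevG2.cartan 0 (rot r) * c₁ ^ chevG2.cartan 1 (rot r) : Kˣ) : K) * t) := by
    intro r hr t
    calc (d * ww K) * x r t * (d * ww K)⁻¹ = d * (ww K * x r t * (ww K)⁻¹) * d⁻¹ := by group
      _ = _ := by rw [ww_conj hr, hc, tor_conj (rot_lt r hr)]
  have hfix : ∀ r < 12, (d * ww K) ^ 3 * x r 1 * ((d * ww K) ^ 3)⁻¹ = x r 1 := by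
    intro r hr
    have e : (d * ww K) ^ 3 * x r 1 * ((d * ww K) ^ 3)⁻¹ = (d * ww K) * ((d * ww K) *
        ((d * ww K) * x r 1 * (d * ww K)⁻¹) * (d * ww K)⁻¹) * (d * ww K)⁻¹ := by
      rw [pow_succ, pow_two]; group
    rw [e, hstep r hr, hstep _ (rot_lt r hr), hstep _ (rot_lt _ (rot_lt r hr)), rot_cube r hr]
    congr 1
    obtain ⟨s0, s1⟩ := rot_sum r hr
    rw [mul_one, ← Units.val_mul, ← Units.val_mul]
    rw [show ∀ a b c a' b' c' : Kˣ, a * a' * (b * b' * (c * c')) = (a * b * c) * (a' * b' * c') from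
      fun a b c a' b' c' => by simp only [mul_assoc, mul_left_comm, mul_comm]]
    rw [← _root_.zpow_add, ← _root_.zpow_add, ← _root_.zpow_add, ← _root_.zpow_add,
      show chevG2.cartan 0 r + chevG2.cartan 0 (rot (rot r)) + chevG2.cartan 0 (rot r) = 0 by linarith,
      show chevG2.cartan 1 r + chevG2.cartan 1 (rot (rot r)) + chevG2.cartan 1 (rot r) = 0 by linarith]
    simp
  exact diag_eq_one hmem (hfix 9 (by norm_num)) (hfix 11 (by norm_num))

theorem ww_not_diag : ww K ∉ chevG2.diagonalSubgroup K := by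
  intro h
  obtain ⟨c₀, c₁, hc⟩ := exists_tor h
  have e := ww_conj (F := K) (r := 11) (by norm_num) 1
  rw [hc, tor_x11, mul_one] at e
  have hU : x 11 (c₁ : K) ∈ chevG2.posUnipotent K :=
    S2.xG_mem_U (by rw [half_eq.1]; norm_num) (by rw [half_eq.2]; norm_num) _
  have hV : x 11 (c₁ : K) ∈ chevG2.negUnipotent K := by
    rw [e]
    exact Subgroup.subset_closure ⟨_, _, S2.isNeg_iff.2 (by rw [half_eq.1]; exact rot_eleven.1), S2.ok.val_xG _ _⟩
  have h1 : x 11 (c₁ : K) ∈ chevG2.borelSubgroup K ⊓ chevG2.negUnipotent K :=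
    Subgroup.mem_inf.2 ⟨S2.B_le_of hU, hV⟩
  rw [S2.B_inf_V okNeg_G2, Subgroup.mem_bot] at h1
  exact c₁.ne_zero (S2.xG_eq_one (by rw [half_eq.2]; norm_num) h1)

theorem three_exp {m : ℕ} (hm : 1 ≤ m) (h1 : 3 ^ m ∣ Fintype.card K - 1) (h2 : ¬ 3 ^ (m + 1) ∣ Fintype.card K - 1)
    {y : GL chevG2.Idx K} (hy : y ∈ chevG2.group K) {v : ℕ} (hv : orderOf y = 3 ^ v) : y ^ (3 ^ m) = 1 := by
  classical
  letI := ZMod.algebra K 2
  haveI : Fact (Nat.Prime 3) := ⟨Nat.prime_three⟩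
  set Q := Fintype.card K with hQ
  set T := tors K (3 ^ m) with hT
  set Z := Subgroup.zpowers (ww K) with hZ
  have hconj : ∀ d ∈ T, ww K * d * (ww K)⁻¹ ∈ T := by
    intro d hd
    rw [hT, mem_tors] at hd ⊢
    refine ⟨S2.norm_diag ww_mono hd.1, ?_⟩
    rw [conj_pow, hd.2, mul_one, mul_inv_cancel]
  have hwi : (ww K)⁻¹ = ww K * ww K := inv_eq_of_mul_eq_one_right (by rw [← pow_two, ← pow_succ', ww_pow])
  have hN : Z ≤ Subgroup.normalizer (T : Set (GL chevG2.Idx K)) := by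
    rw [hZ, Subgroup.zpowers_le]
    refine Subgroup.mem_normalizer_iff.2 fun d => ⟨hconj d, fun h => ?_⟩
    have h3 := hconj _ (hconj _ h)
    have e : d = ww K * (ww K * (ww K * d * (ww K)⁻¹) * (ww K)⁻¹) * (ww K)⁻¹ := by
      calc d = ww K * (ww K * ww K) * d * (ww K * (ww K * ww K))⁻¹ := by
            rw [← hwi, mul_inv_cancel]; group
        _ = _ := by group
    rw [e]
    exact h3
  have hw1 : ww K ≠ 1 := fun h => ww_not_diag (h ▸ one_mem _)
  have hwo : orderOf (ww K) = 3 := orderOf_eq_prime ww_pow hw1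
  have hdisj : Disjoint T Z := by
    rw [disjoint_iff, eq_bot_iff]
    rintro z ⟨hzT, hzZ⟩
    obtain ⟨j, rfl⟩ := (isOfFinOrder_of_finite (ww K)).mem_powers_iff_mem_zpowers.2 hzZ
    rw [Subgroup.mem_bot]
    by_contra hz
    have hj : ¬ 3 ∣ j := fun h3 => hz (orderOf_dvd_iff_pow_eq_one.1 (hwo ▸ h3))
    obtain ⟨b, hb⟩ := exists_pow_eq_self_of_coprime (x := ww K) (n := j)
      (by rw [hwo]; exact ((Nat.prime_three.coprime_iff_not_dvd).2 hj).symm)
    have : ww K ∈ T := hb ▸ pow_mem hzT b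
    exact ww_not_diag (mem_tors.1 this).1
  set S := T ⊔ Z with hS
  have hSG : S ≤ chevG2.group K := by
    refine sup_le (fun d hd => S2.diag_le_group (mem_tors.1 hd).1) ?_
    rw [hZ, Subgroup.zpowers_le]
    exact ww_mem
  have hset : (S : Set (GL chevG2.Idx K)) = (T : Set (GL chevG2.Idx K)) * (Z : Set (GL chevG2.Idx K)) := by
    rw [hS, Subgroup.coe_mul_of_right_le_normalizer_left _ _ hN]
  have hcardS : Nat.card ↥S = 3 ^ (2 * m + 1) := by
    have hinj := Subgroup.mul_injective_of_disjoint hdisj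
    have : Nat.card ↥S = Nat.card (↥T × ↥Z) := by
      refine (Nat.card_eq_of_bijective (fun p : ↥T × ↥Z => (⟨p.1.1 * p.2.1,
        mul_mem (Subgroup.mem_sup_left p.1.2) (Subgroup.mem_sup_right p.2.2)⟩ : ↥S)) ⟨?_, ?_⟩).symm
      · intro a b hab
        exact hinj (congrArg Subtype.val hab)
      · rintro ⟨z, hz⟩
        have hz' : z ∈ (S : Set (GL chevG2.Idx K)) := hz
        rw [hset] at hz'
        obtain ⟨a, ha, b, hb, rfl⟩ := Set.mem_mul.1 hz'
        exact ⟨(⟨a, ha⟩, ⟨b, hb⟩), rfl⟩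
    rw [this, Nat.card_prod, hT, card_tors h1, hZ, Nat.card_zpowers, hwo, pow_succ]
  have hfact : (Nat.card ↥(chevG2.group K)).factorization 3 = 2 * m + 1 := by
    have hQ1 : 1 ≤ Q := Fintype.card_pos
    have h3Q : 3 ∣ Q - 1 := (dvd_pow_self 3 (by omega : m ≠ 0)).trans h1
    obtain ⟨a, ha⟩ : ∃ a, Q = 3 * a + 1 := by
      obtain ⟨a, ha⟩ := h3Q
      exact ⟨a, by omega⟩
    have hQ0 : Q ^ 6 ≠ 0 := pow_ne_zero _ (by omega)
    have hQ2 : Q ^ 2 - 1 = (Q - 1) * (Q + 1) := by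
      rw [show (Q : ℕ) ^ 2 - 1 = Q ^ 2 - 1 ^ 2 by norm_num, Nat.sq_sub_sq, mul_comm]
    have hQm : Q - 1 ≠ 0 := by
      intro h0
      have := Fintype.one_lt_card (α := K)
      omega
    have hv : padicValNat 3 (Q - 1) = m := by
      refine le_antisymm ?_ ((padicValNat_dvd_iff_le hQm).1 h1)
      by_contra h0
      exact h2 ((padicValNat_dvd_iff_le hQm).2 (by omega))
    have hp0 : ¬ 3 ∣ Q + 1 := by omega
    have hc : Q ^ 4 + Q ^ 2 + 1 = 3 * (3 * (9 * a ^ 4 + 12 * a ^ 3 + 7 * a ^ 2 + 2 * a) + 1) := by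
      rw [ha]; ring
    have hv2 : padicValNat 3 (Q ^ 2 - 1) = m := by
      rw [hQ2, padicValNat.mul hQm (by omega), hv, padicValNat.eq_zero_of_not_dvd hp0, add_zero]
    have hQ2' : Q ^ 2 - 1 ≠ 0 := by rw [hQ2]; exact mul_ne_zero hQm (by omega)
    rw [card_group (F := K), Nat.factorization_def _ Nat.prime_three, six_split hQ1,
      padicValNat.mul (mul_ne_zero hQ0 hQ2') (mul_ne_zero hQ2' (by omega)),
      padicValNat.mul hQ0 hQ2', padicValNat.mul hQ2' (by omega), hv2, hc,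
      padicValNat.mul (by norm_num) (by omega), padicValNat.self (by norm_num),
      padicValNat.eq_zero_of_not_dvd (n := Q ^ 6) (fun h => by
        have := Nat.prime_three.dvd_of_dvd_pow h
        omega),
      padicValNat.eq_zero_of_not_dvd (n := 3 * (9 * a ^ 4 + 12 * a ^ 3 + 7 * a ^ 2 + 2 * a) + 1) (by omega)]
    ring
  let P : Sylow 3 ↥(chevG2.group K) := Sylow.ofCard (S.subgroupOf (chevG2.group K))
    (by rw [Nat.card_congr (Subgroup.subgroupOfEquivOfLe hSG).toEquiv, hcardS, hfact])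
  have hp : IsPGroup 3 ↥(Subgroup.zpowers (⟨y, hy⟩ : ↥(chevG2.group K))) :=
    IsPGroup.of_card (n := v) (by rw [Nat.card_zpowers, ← Subgroup.orderOf_coe, hv])
  obtain ⟨P', hP'⟩ := hp.exists_le_sylow
  obtain ⟨k, hk⟩ := MulAction.exists_smul_eq ↥(chevG2.group K) P' P
  have hmem : k * ⟨y, hy⟩ * k⁻¹ ∈ (P : Subgroup ↥(chevG2.group K)) := by
    rw [← hk, Sylow.coe_subgroup_smul]
    exact Subgroup.smul_mem_pointwise_smul _ _ _ (hP' (Subgroup.mem_zpowers _))
  set z : GL chevG2.Idx K := ((k * ⟨y, hy⟩ * k⁻¹ : ↥(chevG2.group K)) : GL chevG2.Idx K) with hz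
  have hzS : z ∈ (S : Set (GL chevG2.Idx K)) := hmem
  rw [hset] at hzS
  obtain ⟨a, ha, b, hb, e⟩ := Set.mem_mul.1 hzS
  have hzpow : z ^ (3 ^ m) = 1 := by
    rw [← e]
    obtain ⟨j, rfl⟩ := (isOfFinOrder_of_finite (ww K)).mem_powers_iff_mem_zpowers.2 hb
    have h3m : 3 ∣ 3 ^ m := dvd_pow_self 3 (by omega)
    have had := (mem_tors.1 ha).1
    show (a * ww K ^ j) ^ (3 ^ m) = 1
    rw [← pow_mod_orderOf (ww K) j, hwo]
    have := Nat.mod_lt j (show 3 > 0 by norm_num)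
    interval_cases hj : j % 3
    · rw [pow_zero, mul_one]
      exact (mem_tors.1 ha).2
    · rw [pow_one]
      exact orderOf_dvd_iff_pow_eq_one.1 ((orderOf_dvd_of_pow_eq_one (diag_ww_cube had)).trans h3m)
    · refine orderOf_dvd_iff_pow_eq_one.1 ((orderOf_dvd_of_pow_eq_one ?_).trans h3m)
      have e2 : a * ww K ^ 2 = (ww K * a⁻¹ * (ww K)⁻¹ * ww K)⁻¹ := by
        rw [pow_two, ← hwi]; group
      rw [e2, inv_pow, diag_ww_cube (S2.norm_diag ww_mono (inv_mem had)), inv_one]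
  have e : y = (k : GL chevG2.Idx K)⁻¹ * z * (k : GL chevG2.Idx K)⁻¹⁻¹ := by
    simp [hz, mul_assoc]
  rw [e, conj_pow, hzpow]
  group

end Three

/-- Powers of three. -/
theorem order_three {k : ℕ} {y : ↥(chevG2.group F)} (hy : orderOf y = 3 ^ k)
    (h3 : 3 ∣ Fintype.card F ^ 2 - 1) : 3 ^ k ∣ Fintype.card F ^ 2 - 1 := by
  classical
  haveI : Fact (Nat.Prime 2) := ⟨Nat.prime_two⟩
  haveI : Fact (Nat.Prime 3) := ⟨Nat.prime_three⟩
  let K := FiniteField.Extension F 2 2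
  letI : Fintype K := Fintype.ofFinite K
  haveI : CharP K 2 := charP_of_injective_algebraMap (algebraMap F K).injective 2
  set q := Fintype.card F with hq
  have hK : Fintype.card K = q ^ 2 := by
    rw [← Nat.card_eq_fintype_card, hq, ← Nat.card_eq_fintype_card]
    exact FiniteField.natCard_extension F 2 2
  have hne : q ^ 2 - 1 ≠ 0 := by
    have := Fintype.one_lt_card (α := F)
    have h4 : 2 ^ 2 ≤ q ^ 2 := Nat.pow_le_pow_left (by omega) 2
    norm_num at h4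
    omega
  set m := padicValNat 3 (q ^ 2 - 1) with hm
  have hm1 : 1 ≤ m := one_le_padicValNat_of_dvd hne h3
  have h1 : 3 ^ m ∣ Fintype.card K - 1 := by rw [hK]; exact pow_padicValNat_dvd
  have h2 : ¬ 3 ^ (m + 1) ∣ Fintype.card K - 1 := by rw [hK]; exact pow_succ_padicValNat_not_dvd hne
  have hyK : Springer.ext chevG2 F K (y : GL chevG2.Idx F) ∈ chevG2.group K := Springer.ext_mem_group S2 y.2
  have hord : orderOf (Springer.ext chevG2 F K (y : GL chevG2.Idx F)) = 3 ^ k := by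
    rw [orderOf_injective _ Springer.ext_injective, Subgroup.orderOf_coe, hy]
  have h := orderOf_dvd_of_pow_eq_one (three_exp hm1 h1 h2 hyK hord)
  rw [hord] at h
  exact h.trans pow_padicValNat_dvd

/-- The order of an element of odd order. -/
theorem order_odd {g : ↥(chevG2.group F)} (ho : ¬ 2 ∣ orderOf g) :
    orderOf g ∣ Fintype.card F ^ 2 + Fintype.card F + 1 ∨ orderOf g ∣ Fintype.card F ^ 2 - Fintype.card F + 1 ∨
      orderOf g ∣ Fintype.card F ^ 2 - 1 := by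
  classical
  set q := Fintype.card F with hq
  set n := orderOf g with hn
  have hn0 : 0 < n := orderOf_pos g
  by_cases hN : ∃ r : ℕ, r.Prime ∧ r ≠ 3 ∧ r ∣ n ∧ (r ∣ q ^ 2 + q + 1 ∨ r ∣ q ^ 2 - q + 1)
  · obtain ⟨r, hr, hr3, hrn, hrN⟩ := hN
    have hr2 : r ≠ 2 := fun h => ho (h ▸ hrn)
    have hx0 : orderOf (g ^ (n / r)) = r := orderOf_pow_orderOf_div hn0.ne' hrn
    have hc : Commute g (g ^ (n / r)) := (Commute.refl g).pow_right _
    have hdvd := dvd_card_of_commute hc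
    rcases hrN with h | h
    · rw [(torus_cent (e := 3) (Or.inl rfl) ⟨fun _ => rfl, fun h => absurd h (by norm_num)⟩ hr hr2 hr3 h _ hx0).2]
        at hdvd
      exact Or.inl hdvd
    · rw [(torus_cent (e := 6) (Or.inr rfl) ⟨fun h => absurd h (by norm_num), fun _ => rfl⟩ hr hr2 hr3 h _ hx0).2]
        at hdvd
      exact Or.inr (Or.inl hdvd)
  push_neg at hN
  refine Or.inr (Or.inr ((Nat.dvd_iff_prime_pow_dvd_dvd _ _).2 fun r k hr hk => ?_))
  rcases Nat.eq_zero_or_pos k with rfl | hk0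
  · simp
  have hrn : r ∣ n := (dvd_pow_self r hk0.ne').trans hk
  have hr2 : r ≠ 2 := fun h => ho (h ▸ hrn)
  have hy : orderOf (g ^ (n / r ^ k)) = r ^ k := orderOf_pow_orderOf_div hn0.ne' hk
  have hq1 : 1 ≤ q := Fintype.card_pos
  by_cases hr3 : r = 3
  · subst hr3
    refine order_three hy ?_
    obtain ⟨a, -, ha⟩ := FiniteField.card F 2
    rw [ha, ← pow_mul, mul_comm, pow_mul]
    exact (Nat.sub_dvd_pow_sub_pow 4 1 (a : ℕ)).trans (by rw [one_pow]; norm_num)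
  refine order_big hr hr2 hr3 ?_ hy
  have hcard : r ∣ q ^ 6 * (q ^ 2 - 1) * (q ^ 6 - 1) := card_group (F := F) ▸ hrn.trans (orderOf_dvd_natCard g)
  rw [six_split hq1, four_split hq1] at hcard
  obtain ⟨a, -, ha⟩ := FiniteField.card F 2
  rcases (Nat.Prime.dvd_mul hr).1 hcard with h | h
  · rcases (Nat.Prime.dvd_mul hr).1 h with h | h
    · exact absurd ((Nat.prime_dvd_prime_iff_eq hr Nat.prime_two).1
        (hr.dvd_of_dvd_pow (ha ▸ hr.dvd_of_dvd_pow h : r ∣ 2 ^ (a : ℕ)))) hr2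
    · exact h
  · rcases (Nat.Prime.dvd_mul hr).1 h with h | h
    · exact h
    · rcases (Nat.Prime.dvd_mul hr).1 h with h | h
      · exact absurd h (hN r hr hr3 hrn).1
      · exact absurd h (hN r hr hr3 hrn).2

end Cfsg.Lib.GTwoOrd
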