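import Cfsg.Agent.Chev.GTwoOrders.Even
import Cfsg.Agent.Chev.GTwoOrders.Odd

/-!
Elements of the maximal orders of `G₂`, characteristic two.
-/

set_option autoImplicit false
set_option linter.unusedSectionVars false

open Cfsg.Lie

namespace Cfsg.Lib.GTwoOrd

open Cfsg.Lib.Chev Cfsg.Lib.GTwoInv

variable {F : Type*} [Field F] [CharP F 2] [Fintype F]

theorem order_eight : ∃ g ∈ chevG2.group F, orderOf g = 8 := by
  letI := ZMod.algebra F 2
  haveI : Fact (Nat.Prime 2) := ⟨Nat.prime_two⟩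
  set u : GL chevG2.Idx (ZMod 2) := x 6 1 * x 7 1 with hu
  have huv : (u : Matrix chevG2.Idx chevG2.Idx (ZMod 2)) = eA := by
    rw [hu, Units.val_mul, val_x_two (r := 6) (by rw [half_eq.2]; norm_num),
      val_x_two (r := 7) (by rw [half_eq.2]; norm_num), eA_eq]
  have h4 : ((u ^ 4 : GL chevG2.Idx (ZMod 2)) : Matrix chevG2.Idx chevG2.Idx (ZMod 2)) = eC := by
    rw [show (4 : ℕ) = 2 * 2 from rfl, pow_mul, pow_two (u ^ 2), Units.val_mul, pow_two, Units.val_mul, huv,
      eA_sq, eB_sq]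
  have n4 : ¬ u ^ 2 ^ 2 = 1 := by
    intro h
    norm_num at h
    rw [h, Units.val_one] at h4
    exact eC_sq.2 h4.symm
  have h8 : u ^ 2 ^ (2 + 1) = 1 := by
    refine Units.ext ?_
    rw [show 2 ^ (2 + 1) = 4 * 2 from rfl, pow_mul, pow_two, Units.val_mul, h4, eC_sq.1, Units.val_one]
  refine ⟨Springer.ext chevG2 (ZMod 2) F u, Springer.ext_mem_group S2 (mul_mem (x_mem 6 1) (x_mem 7 1)), ?_⟩
  rw [orderOf_injective _ Springer.ext_injective, orderOf_eq_prime_pow n4 h8]
  rfl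

theorem order_twelve : ∃ g ∈ chevG2.group F, orderOf g = 12 := by
  letI := ZMod.algebra F 2
  set u : GL chevG2.Idx (ZMod 2) := x 0 1 * x 2 1 * x 9 1 with hu
  have huv : (u : Matrix chevG2.Idx chevG2.Idx (ZMod 2)) = tA := by
    rw [hu, Units.val_mul, Units.val_mul, val_x_two (r := 0) (by rw [half_eq.2]; norm_num),
      val_x_two (r := 2) (by rw [half_eq.2]; norm_num), val_x_two (r := 9) (by rw [half_eq.2]; norm_num), tA_eq]
  have h2 : ((u ^ 2 : GL chevG2.Idx (ZMod 2)) : Matrix chevG2.Idx chevG2.Idx (ZMod 2)) = tB := by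
    rw [pow_two, Units.val_mul, huv, tA_sq]
  have h4 : ((u ^ 4 : GL chevG2.Idx (ZMod 2)) : Matrix chevG2.Idx chevG2.Idx (ZMod 2)) = tC := by
    rw [show (4 : ℕ) = 2 * 2 from rfl, pow_mul, pow_two, Units.val_mul, h2, tB_sq.1]
  have h6 : ((u ^ 6 : GL chevG2.Idx (ZMod 2)) : Matrix chevG2.Idx chevG2.Idx (ZMod 2)) = tD := by
    rw [show (6 : ℕ) = 4 + 2 from rfl, pow_add, Units.val_mul, h2, h4, tC_tB]
  have h12 : u ^ 12 = 1 := by
    refine Units.ext ?_
    rw [show (12 : ℕ) = 6 * 2 from rfl, pow_mul, pow_two, Units.val_mul, h6, tD_sq.1, Units.val_one]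
  have n4 : ¬ orderOf u ∣ 4 := fun h => by
    rw [orderOf_dvd_iff_pow_eq_one.1 h, Units.val_one] at h4
    exact tB_sq.2 h4.symm
  have n6 : ¬ orderOf u ∣ 6 := fun h => by
    rw [orderOf_dvd_iff_pow_eq_one.1 h, Units.val_one] at h6
    exact tD_sq.2 h6.symm
  have hdiv : orderOf u ∈ Nat.divisors 12 :=
    Nat.mem_divisors.2 ⟨orderOf_dvd_of_pow_eq_one h12, by norm_num⟩
  rw [show Nat.divisors 12 = {1, 2, 3, 4, 6, 12} by decide] at hdiv
  refine ⟨Springer.ext chevG2 (ZMod 2) F u,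
    Springer.ext_mem_group S2 (mul_mem (mul_mem (x_mem 0 1) (x_mem 2 1)) (x_mem 9 1)), ?_⟩
  rw [orderOf_injective _ Springer.ext_injective]
  simp only [Finset.mem_insert, Finset.mem_singleton] at hdiv
  rcases hdiv with e | e | e | e | e | e <;> rw [e] at n4 n6 <;> first | exact e | exact absurd (by decide) n4 | exact absurd (by decide) n6

theorem exists_prime_factor {N : ℕ} (h4 : 4 ≤ N) (ho : ¬ 2 ∣ N) (h9 : ¬ 9 ∣ N) :
    ∃ r : ℕ, r.Prime ∧ r ≠ 2 ∧ r ≠ 3 ∧ r ∣ N := by
  by_contra h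
  push_neg at h
  have h3 : ∀ d : ℕ, d.Prime → d ∣ N → d = 3 := fun d hd hdN => by
    by_contra h3
    exact h d hd (fun e => ho (e ▸ hdN)) h3 hdN
  have e := Nat.eq_prime_pow_of_unique_prime_dvd (by omega) (fun {d} => h3 d)
  rcases hk : N.primeFactorsList.length with _ | _ | k <;> rw [hk] at e
  · simp at e; omega
  · simp at e; omega
  · exact h9 (e ▸ Dvd.intro (3 ^ k) (by ring))

theorem card_even : 2 ∣ Fintype.card F := by
  obtain ⟨a, -, ha⟩ := FiniteField.card F 2
  rw [ha]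
  exact dvd_pow_self 2 a.ne_zero

theorem order_cyclotomic (hq : 4 ≤ Fintype.card F) :
    (∃ g ∈ chevG2.group F, orderOf g = Fintype.card F ^ 2 + Fintype.card F + 1) ∧
      ∃ g ∈ chevG2.group F, orderOf g = Fintype.card F ^ 2 - Fintype.card F + 1 := by
  set q := Fintype.card F with hqdef
  have h2 : 2 ∣ q := card_even
  have hsq : q * 4 ≤ q ^ 2 := by rw [pow_two]; exact Nat.mul_le_mul_left q hq
  have h2q : 2 ∣ q ^ 2 := dvd_pow h2 two_ne_zero
  have key : ∀ {N e : ℕ} (_ : e = 3 ∨ e = 6) (_ : (e = 3 → N = q ^ 2 + q + 1) ∧ (e = 6 → N = q ^ 2 - q + 1)),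
      4 ≤ N → ¬ 2 ∣ N → ¬ 9 ∣ N → N ∣ q ^ 4 + q ^ 2 + 1 → ∃ g ∈ chevG2.group F, orderOf g = N := by
    intro N e he hN h4 ho h9 hdvd
    obtain ⟨r, hr, hr2, hr3, hrN⟩ := exists_prime_factor h4 ho h9
    haveI : Fact r.Prime := ⟨hr⟩
    obtain ⟨x0, hx0⟩ := exists_prime_orderOf_dvd_card' (G := ↥(chevG2.group F)) r (by
      rw [card_group, six_split (by omega)]
      exact dvd_mul_of_dvd_right (dvd_mul_of_dvd_right (hrN.trans hdvd) _) _)
    obtain ⟨hcyc, hcard⟩ := torus_cent he hN hr hr2 hr3 hrN x0 hx0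
    obtain ⟨z, hz⟩ := IsCyclic.exists_ofOrder_eq_natCard
      (α := ↥(Subgroup.centralizer ({x0} : Set ↥(chevG2.group F))))
    exact ⟨((z : ↥(chevG2.group F)) : GL chevG2.Idx F), (z : ↥(chevG2.group F)).2, by
      rw [Subgroup.orderOf_coe, Subgroup.orderOf_coe, hz, hcard]⟩
  constructor
  · exact key (e := 3) (Or.inl rfl) ⟨fun _ => rfl, fun h => absurd h (by norm_num)⟩ (by omega) (by omega)
      (not_nine_dvd q) (by rw [four_split (by omega)]; exact dvd_mul_right _ _)
  · exact key (e := 6) (Or.inr rfl) ⟨fun h => absurd h (by norm_num), fun _ => rfl⟩ (by omega) (by omega)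
      (not_nine_dvd' q) (by rw [four_split (by omega)]; exact dvd_mul_left _ _)

theorem exists_sl2_add : ∃ g : Matrix.SpecialLinearGroup (Fin 2) F, orderOf g = Fintype.card F + 1 := by
  haveI : Fact (Nat.Prime 2) := ⟨Nat.prime_two⟩
  let K := FiniteField.Extension F 2 2
  letI : Fintype K := Fintype.ofFinite K
  refine exists_order_add (K := K) ?_
  rw [← Nat.card_eq_fintype_card, ← Nat.card_eq_fintype_card]
  exact FiniteField.natCard_extension F 2 2

theorem order_sq_sub : ∃ g ∈ chevG2.group F, orderOf g = Fintype.card F ^ 2 - 1 := by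
  obtain ⟨φ, hφ⟩ := exists_rootHom (F := F) 7 (by norm_num)
  obtain ⟨ψ, hψ⟩ := exists_rootHom (F := F) 11 (by norm_num)
  obtain ⟨g₁, h₁⟩ := exists_order_sub (F := F)
  obtain ⟨g₂, h₂⟩ := exists_sl2_add (F := F)
  have n11 : chevG2.neg 11 = 0 := by decide +kernel
  have hcomm : Commute (φ g₁) (ψ g₂) := by
    refine hψ.comm (fun t => (L_comm_eleven hφ g₁ t).symm) (fun t => ?_) g₂
    rw [n11]
    refine (hφ.comm (fun u => commutes (by norm_num) (by norm_num) (by norm_num) (by decide +kernel)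
      (by decide +kernel) u t) (fun u => ?_) g₁).symm
    rw [show chevG2.neg 7 = 4 by decide +kernel]
    exact commutes (by norm_num) (by norm_num) (by norm_num) (by decide +kernel) (by decide +kernel) u t
  have o1 : orderOf (φ g₁) = Fintype.card F - 1 := by
    rw [orderOf_injective φ (hφ.inj (by norm_num) (by norm_num) (by decide +kernel)), h₁]
  have o2 : orderOf (ψ g₂) = Fintype.card F + 1 := by
    rw [orderOf_injective ψ (hψ.inj (by norm_num) (by norm_num) (by decide +kernel)), h₂]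
  refine ⟨φ g₁ * ψ g₂, mul_mem (hφ.mem_group _) (hψ.mem_group _), ?_⟩
  have h2 := card_even (F := F)
  have h1 := Fintype.one_lt_card (α := F)
  have hcop : Nat.Coprime (Fintype.card F - 1) (Fintype.card F + 1) := by
    have hd := Nat.dvd_sub (Nat.gcd_dvd_right (Fintype.card F - 1) (Fintype.card F + 1))
      (Nat.gcd_dvd_left (Fintype.card F - 1) (Fintype.card F + 1))
    rw [show Fintype.card F + 1 - (Fintype.card F - 1) = 2 by omega] at hd
    rcases (Nat.dvd_prime Nat.prime_two).1 hd with e | e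
    · exact e
    · have := Nat.gcd_dvd_right (Fintype.card F - 1) (Fintype.card F + 1)
      rw [e] at this
      omega
  rw [hcomm.orderOf_mul_eq_mul_orderOf_of_coprime (by rw [o1, o2]; exact hcop), o1, o2]
  rw [show Fintype.card F ^ 2 - 1 = Fintype.card F ^ 2 - 1 ^ 2 by norm_num, Nat.sq_sub_sq, mul_comm]

theorem order_double (s : ℕ) (hs : ∃ g : Matrix.SpecialLinearGroup (Fin 2) F, orderOf g = s) (ho : ¬ 2 ∣ s) :
    ∃ g ∈ chevG2.group F, orderOf g = 2 * s := by
  obtain ⟨g, hg⟩ := hs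
  obtain ⟨φ, hφ⟩ := exists_rootHom (F := F) 6 (by norm_num)
  have hcomm : Commute (x 9 (1 : F)) (φ g) :=
    hφ.comm (fun t => commutes (by norm_num) (by norm_num) (by norm_num) (by decide +kernel) (by decide +kernel) _ _)
      (fun t => by
        rw [show chevG2.neg 6 = 5 by decide +kernel]
        exact commutes (by norm_num) (by norm_num) (by norm_num) (by decide +kernel) (by decide +kernel) _ _) g
  have o2 : orderOf (φ g) = s := by
    rw [orderOf_injective φ (hφ.inj (by norm_num) (by norm_num) (by decide +kernel)), hg]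
  refine ⟨x 9 1 * φ g, mul_mem (x_mem 9 1) (hφ.mem_group g), ?_⟩
  rw [hcomm.orderOf_mul_eq_mul_orderOf_of_coprime
    (by rw [order_two 9 (Or.inl rfl), o2]; exact Nat.prime_two.coprime_iff_not_dvd.2 ho),
    order_two 9 (Or.inl rfl), o2]

end Cfsg.Lib.GTwoOrd
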