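import Cfsg.Agent.Chev.GTwoOrders.Basic
import Mathlib.FieldTheory.IsAlgClosed.AlgebraicClosure

/-!
Element orders in the centralisers of the two involutions of `G₂`, characteristic two.
-/

set_option autoImplicit false
set_option linter.unusedSectionVars false

open Cfsg.Lie

namespace Cfsg.Lib.GTwoOrd

open Cfsg.Lib.Chev Cfsg.Lib.GTwoInv

variable {F : Type*} [Field F] [CharP F 2]

/-- The radical of the centraliser of the long root involution. -/
def InQ (g : GL chevG2.Idx F) : Prop := ∃ A C D E G : F, g = mk A 0 C D E G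

theorem mk_mul_Q (A C D E G a c d e f : F) :
    mk A 0 C D E G * mk a 0 c d e f = mk (A + a) 0 (C + c) (D + d) (E + e) (G + a * E + c * D + f) := by
  rw [mk_mul]
  congr 1 <;> ring

variable (F) in
/-- The radical as a subgroup. -/
noncomputable def Qg : Subgroup (GL chevG2.Idx F) where
  carrier := {g | InQ g}
  one_mem' := ⟨0, 0, 0, 0, 0, mk_zero.symm⟩
  mul_mem' := by
    rintro _ _ ⟨A, C, D, E, G, rfl⟩ ⟨a, c, d, e, f, rfl⟩
    exact ⟨_, _, _, _, _, mk_mul_Q _ _ _ _ _ _ _ _ _ _⟩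
  inv_mem' := by
    rintro _ ⟨A, C, D, E, G, rfl⟩
    refine ⟨A, C, D, E, G + A * E + C * D, inv_eq_of_mul_eq_one_right ?_⟩
    rw [mk_mul_Q, ← mk_zero]
    congr 1 <;> first | linear_combination A * two' (F := F) | linear_combination C * two' (F := F) |
      linear_combination D * two' (F := F) | linear_combination E * two' (F := F) |
      linear_combination (G + A * E + C * D) * two' (F := F)

theorem mem_Qg {g : GL chevG2.Idx F} : g ∈ Qg F ↔ InQ g := Iff.rfl

theorem x_mem_Qg {r : ℕ} (hr : r ∈ [6, 8, 9, 10, 11]) (t : F) : x r t ∈ Qg F := by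
  obtain ⟨e6, -, e8, e9, e10, e11⟩ := x_eq_mk t
  simp only [List.mem_cons, List.not_mem_nil, or_false] at hr
  rcases hr with rfl | rfl | rfl | rfl | rfl
  exacts [⟨_, _, _, _, _, e6⟩, ⟨_, _, _, _, _, e8⟩, ⟨_, _, _, _, _, e9⟩, ⟨_, _, _, _, _, e10⟩,
    ⟨_, _, _, _, _, e11⟩]

theorem Q_sq {y : GL chevG2.Idx F} (hy : y ∈ Qg F) : ∃ G : F, y * y = x 11 G := by
  obtain ⟨A, C, D, E, G, rfl⟩ := hy
  refine ⟨A * E + C * D, ?_⟩
  rw [mk_mul_Q, (x_eq_mk (A * E + C * D)).2.2.2.2.2]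
  congr 1 <;> first | linear_combination A * two' (F := F) | linear_combination C * two' (F := F) |
    linear_combination D * two' (F := F) | linear_combination E * two' (F := F) |
    linear_combination G * two' (F := F)

theorem x_sq (r : ℕ) (t : F) : x r t * x r t = 1 := by
  rw [x_add, show t + t = 0 by linear_combination t * two' (F := F), x_zero]

theorem Q_pow_four {y : GL chevG2.Idx F} (hy : y ∈ Qg F) : y ^ 4 = 1 := by
  obtain ⟨G, hG⟩ := Q_sq hy
  rw [show (4 : ℕ) = 2 + 2 from rfl, pow_add, pow_two, hG, x_sq]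

theorem Q_comm_mod {y z : GL chevG2.Idx F} (hy : y ∈ Qg F) (hz : z ∈ Qg F) : ∃ G : F, y * z = z * y * x 11 G := by
  obtain ⟨A, C, D, E, G, rfl⟩ := hy
  obtain ⟨a, c, d, e, f, rfl⟩ := hz
  refine ⟨a * E + c * D + A * e + C * d, ?_⟩
  rw [mk_mul_Q, mk_mul_Q, mk_mul_x11]
  congr 1 <;> first | linear_combination -(A * e + C * d) * two' (F := F) | ring

theorem x7_norm (b : F) {q : GL chevG2.Idx F} (hq : q ∈ Qg F) : x 7 b * q * (x 7 b)⁻¹ ∈ Qg F := by
  obtain ⟨A, C, D, E, G, rfl⟩ := hq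
  rw [x_inv, (x_eq_mk b).2.1, mk_mul, mk_mul]
  simp only [zero_mul, mul_zero, zero_add, add_zero, show b + b = 0 by linear_combination b * two' (F := F)]
  exact ⟨_, _, _, _, _, rfl⟩

theorem w0_Q : ∀ r ∈ [6, 8, 9, 10, 11], G2.cert.w 0 r ∈ [6, 8, 9, 10, 11] ∧ G2.cert.w 0 (G2.cert.w 0 r) = r := by
  decide +kernel

theorem nn0_norm {q : GL chevG2.Idx F} (hq : q ∈ Qg F) :
    nn F 0 * q * (nn F 0)⁻¹ ∈ Qg F ∧ (nn F 0)⁻¹ * q * nn F 0 ∈ Qg F := by
  let R : Subgroup (GL chevG2.Idx F) := (Qg F).comap (MulAut.conj (nn F 0)).toMonoidHom ⊓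
    (Qg F).comap (MulAut.conj (nn F 0)⁻¹).toMonoidHom
  have hx : ∀ r ∈ [6, 8, 9, 10, 11], ∀ t : F, x r t ∈ R := by
    intro r hr t
    obtain ⟨h1, h2⟩ := w0_Q r hr
    have hr' : r < 12 := by
      simp only [List.mem_cons, List.not_mem_nil, or_false] at hr
      omega
    refine Subgroup.mem_inf.2 ⟨?_, ?_⟩
    · show nn F 0 * x r t * (nn F 0)⁻¹ ∈ Qg F
      rw [nn_conj (by norm_num) hr']
      exact x_mem_Qg h1 t
    · show (nn F 0)⁻¹ * x r t * (nn F 0)⁻¹⁻¹ ∈ Qg F
      have e := nn_conj (F := F) (i := 0) (r := G2.cert.w 0 r) (by norm_num) (w_lt r hr').1 t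
      rw [h2] at e
      rw [← e, inv_inv]
      simpa [mul_assoc] using x_mem_Qg h1 t
  obtain ⟨A, C, D, E, G, rfl⟩ := hq
  have h : mk A 0 C D E G ∈ R := by
    rw [mk, x_zero, mul_one]
    exact mul_mem (mul_mem (mul_mem (mul_mem (hx 6 (by simp) A) (hx 8 (by simp) C)) (hx 9 (by simp) D))
      (hx 10 (by simp) E)) (hx 11 (by simp) G)
  obtain ⟨h1, h2⟩ := Subgroup.mem_inf.1 h
  exact ⟨h1, by simpa using h2⟩

theorem x4_eq (t : F) : x 4 t = nn F 0 * x 7 t * (nn F 0)⁻¹ := by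
  rw [nn_conj (by norm_num) (by norm_num), show G2.cert.w 0 7 = 4 by decide +kernel]

theorem L_norm {φ : Matrix.SpecialLinearGroup (Fin 2) F →* GL chevG2.Idx F} (h : IsRootHom 7 φ)
    (g : Matrix.SpecialLinearGroup (Fin 2) F) {q : GL chevG2.Idx F} (hq : q ∈ Qg F) :
    φ g * q * (φ g)⁻¹ ∈ Qg F := by
  let R : Subgroup (GL chevG2.Idx F) :=
    { carrier := {z | ∀ q ∈ Qg F, z * q * z⁻¹ ∈ Qg F ∧ z⁻¹ * q * z ∈ Qg F}
      one_mem' := fun q hq => by simp [hq]
      mul_mem' := fun {a b} ha hb q hq => by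
        have h1 := (ha _ (hb q hq).1).1
        have h2 := (hb _ (ha q hq).2).2
        constructor
        · simpa [mul_assoc] using h1
        · simpa [mul_assoc] using h2
      inv_mem' := fun {a} ha q hq => by
        obtain ⟨h1, h2⟩ := ha q hq
        exact ⟨by simpa using h2, by simpa using h1⟩ }
  have h7 : ∀ t : F, x 7 t ∈ R := fun t q hq => by
    refine ⟨x7_norm t hq, ?_⟩
    have := x7_norm t hq
    rw [x_inv] at this ⊢
    exact this
  have hn : nn F 0 ∈ R := fun q hq => nn0_norm hq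
  have h4 : ∀ t : F, x 4 t ∈ R := fun t => by
    rw [x4_eq]
    exact mul_mem (mul_mem hn (h7 t)) (inv_mem hn)
  exact ((h.mem h7 (by rw [show chevG2.neg 7 = 4 by decide +kernel]; exact h4) g) q hq).1

theorem L_comm_eleven {φ : Matrix.SpecialLinearGroup (Fin 2) F →* GL chevG2.Idx F} (h : IsRootHom 7 φ)
    (g : Matrix.SpecialLinearGroup (Fin 2) F) (t : F) : x 11 t * φ g = φ g * x 11 t :=
  h.comm (fun u => commutes (by norm_num) (by norm_num) (by norm_num) (by decide +kernel) (by decide +kernel) u t)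
    (fun u => by
      rw [show chevG2.neg 7 = 4 by decide +kernel]
      exact commutes (by norm_num) (by norm_num) (by norm_num) (by decide +kernel) (by decide +kernel) u t) g

/-- Powers in a product with a normalised subgroup. -/
theorem mul_pow_mem {G : Type*} [Group G] (N : Subgroup G) {σ q : G} (hσ : ∀ y ∈ N, σ * y * σ⁻¹ ∈ N)
    (hq : q ∈ N) : ∀ n : ℕ, (q * σ) ^ n * (σ ^ n)⁻¹ ∈ N
  | 0 => by simp
  | n + 1 => by
    have e : (q * σ) ^ (n + 1) * (σ ^ (n + 1))⁻¹ = q * (σ * ((q * σ) ^ n * (σ ^ n)⁻¹) * σ⁻¹) := by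
      rw [pow_succ' (q * σ), pow_succ' σ]
      group
    rw [e]
    exact mul_mem hq (hσ _ (mul_pow_mem N hσ hq n))

theorem cartan_Q : chevG2.cartan 0 6 = -3 ∧ chevG2.cartan 0 8 = -1 ∧ chevG2.cartan 0 9 = 1 ∧
    chevG2.cartan 0 10 = 3 ∧ chevG2.cartan 0 11 = 0 := by decide +kernel

/-- Fixed points modulo the centre of a torus element of order prime to three are central. -/
theorem Q_fixed {l : Fˣ} (h3 : l ^ 3 ≠ 1) {z : GL chevG2.Idx F} (hz : z ∈ Qg F) {c : F}
    (h : tor l 1 * z * (tor l 1)⁻¹ = z * x 11 c) : ∃ G : F, z = x 11 G := by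
  obtain ⟨A, C, D, E, G, rfl⟩ := hz
  have e : ∀ {r : ℕ} {k : ℤ}, r < 12 → chevG2.cartan 0 r = k → ∀ t : F,
      tor l 1 * x r t * (tor l 1)⁻¹ = x r (((l ^ k : Fˣ) : F) * t) := by
    intro r k hr hk t
    rw [tor_conj hr, hk, _root_.one_zpow, mul_one]
  obtain ⟨k6, k8, k9, k10, k11⟩ := cartan_Q
  have hc : ∀ {P Q : GL chevG2.Idx F}, tor l 1 * (P * Q) * (tor l 1)⁻¹ =
      (tor l 1 * P * (tor l 1)⁻¹) * (tor l 1 * Q * (tor l 1)⁻¹) := fun {P Q} => by group
  have h1 : tor l 1 * mk A 0 C D E G * (tor l 1)⁻¹ = mk (((l ^ (-3 : ℤ) : Fˣ) : F) * A) 0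
      (((l ^ (-1 : ℤ) : Fˣ) : F) * C) ((l : F) * D) (((l ^ (3 : ℤ) : Fˣ) : F) * E) G := by
    simp only [mk, x_zero, mul_one, hc, e (by norm_num) k6, e (by norm_num) k8, e (by norm_num) k9,
      e (by norm_num) k10, e (by norm_num) k11, zpow_zero, zpow_one, Units.val_one, one_mul]
  rw [h1, mk_mul_x11] at h
  obtain ⟨hA, -, hC, hD, hE, -⟩ := mk_inj h
  have hl : (l : F) ≠ 1 := fun h0 => h3 (by rw [Units.ext (h0.trans Units.val_one.symm), one_pow])
  have hz3 : l ^ (3 : ℤ) ≠ 1 := by rwa [zpow_ofNat]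
  have z1 : ∀ {k : Fˣ} {T : F}, k ≠ 1 → (k : F) * T = T → T = 0 := by
    intro k T hk hT
    have : ((k : F) - 1) * T = 0 := by rw [sub_mul, hT, one_mul, sub_self]
    exact (mul_eq_zero.1 this).resolve_left (sub_ne_zero.2 fun h0 => hk (Units.ext h0))
  obtain rfl : A = 0 := z1 (by rwa [_root_.zpow_neg, Ne, inv_eq_one]) hA
  obtain rfl : C = 0 := z1 (by rw [_root_.zpow_neg, _root_.zpow_one, Ne, inv_eq_one]; exact fun h0 => hl (by rw [h0]; rfl)) hC
  obtain rfl : D = 0 := z1 (k := l) (fun h0 => hl (by rw [h0]; rfl)) hD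
  obtain rfl : E = 0 := z1 hz3 hE
  exact ⟨G, (x_eq_mk G).2.2.2.2.2.symm⟩

theorem simple_zero : chevG2.simple 0 = 7 := by decide +kernel

variable [Fintype F]

/-- Orders in the centraliser of the long root involution. -/
theorem order_z {φ : Matrix.SpecialLinearGroup (Fin 2) F →* GL chevG2.Idx F} (hφ : IsRootHom 7 φ)
    {q0 : GL chevG2.Idx F} (hq0 : q0 ∈ Qg F) (g : Matrix.SpecialLinearGroup (Fin 2) F) :
    orderOf (q0 * φ g) ∣ 8 ∨ orderOf (q0 * φ g) ∣ 12 ∨ orderOf (q0 * φ g) ∣ 2 * (Fintype.card F - 1) ∨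
      orderOf (q0 * φ g) ∣ 2 * (Fintype.card F + 1) := by
  classical
  set σ := φ g with hσ
  set X := q0 * σ with hX
  have hnorm : ∀ y ∈ Qg F, σ * y * σ⁻¹ ∈ Qg F := fun y hy => L_norm hφ g hy
  set s := orderOf g with hs
  have hσs : σ ^ s = 1 := by rw [hσ, ← map_pow, pow_orderOf_eq_one, map_one]
  have hy : X ^ s ∈ Qg F := by
    have := mul_pow_mem (Qg F) hnorm hq0 s
    rwa [hσs, inv_one, mul_one] at this
  have h4 : X ^ (s * 4) = 1 := by rw [pow_mul, Q_pow_four hy]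
  by_cases h2 : g ^ 2 = 1
  · refine Or.inl ((orderOf_dvd_of_pow_eq_one h4).trans ?_)
    exact (mul_dvd_mul_right (orderOf_dvd_of_pow_eq_one h2) 4).trans (by norm_num)
  by_cases h3 : g ^ 3 = 1
  · refine Or.inr (Or.inl ((orderOf_dvd_of_pow_eq_one h4).trans ?_))
    exact (mul_dvd_mul_right (orderOf_dvd_of_pow_eq_one h3) 4).trans (by norm_num)
  -- the torus case
  have ht : tau g ≠ 0 := fun h => h2 (sq_one h)
  let K := AlgebraicClosure F
  haveI : CharP K 2 := charP_of_injective_algebraMap (algebraMap F K).injective 2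
  obtain ⟨l0, hl0⟩ : ∃ l : K, (Polynomial.X ^ 2 + Polynomial.C (algebraMap F K (tau g)) * Polynomial.X + 1).IsRoot l := by
    refine IsAlgClosed.exists_root _ ?_
    rw [show (Polynomial.X ^ 2 + Polynomial.C (algebraMap F K (tau g)) * Polynomial.X + 1 : Polynomial K).degree = 2 by
      compute_degree!]
    norm_num
  have hl0' : l0 ^ 2 + algebraMap F K (tau g) * l0 + 1 = 0 := by simpa using hl0
  have hl0n : l0 ≠ 0 := fun h => by simp [h] at hl0'
  set l : Kˣ := Units.mk0 l0 hl0n with hl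
  obtain ⟨h, hh⟩ := conj_dia2 (K := K) g ht (l := l) hl0'
  obtain ⟨ψ, hψ⟩ := exists_rootHom (F := K) 7 (by norm_num)
  set gK := Matrix.SpecialLinearGroup.map (algebraMap F K) g with hgK
  have hord : orderOf l = s := by
    have e1 : orderOf gK = s := by
      refine orderOf_injective _ ?_ g
      intro a b hab
      refine mat_inj (Matrix.map_injective (algebraMap F K).injective ?_)
      exact congrArg mat hab
    have e2 : gK = h * dia2 l * h⁻¹ := eq_mul_inv_iff_mul_eq.2 hh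
    rw [← orderOf_dia2 l, ← e1, e2]
    exact (orderOf_injective (MulAut.conj h).toMonoidHom (MulAut.conj h).injective (dia2 l)).symm
  have hl3 : l ^ 3 ≠ 1 := fun h0 => h3 (orderOf_dvd_iff_pow_eq_one.1 (hs ▸ hord ▸ orderOf_dvd_of_pow_eq_one h0))
  have hd : ψ (dia2 l) = tor l 1 := by
    rw [hψ.map_dia2]
    show _ = Ok.tG chevG2 K _
    rw [show (![l, 1] : Fin 2 → Kˣ) = Pi.mulSingle (i0 : Fin 2) l by funext i; fin_cases i <;> rfl]
    rw [← S2.ok.hG_simple_eq_tG i0 l]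
    congr 1
  -- the power of `X` is fixed modulo the centre
  set y := X ^ s with hys
  have hcomm : X * y = y * X := ((Commute.refl X).pow_right s).eq
  obtain ⟨c0, hc0⟩ := Q_comm_mod (inv_mem hq0) hy
  have hfix : σ * y * σ⁻¹ = y * x 11 c0 := by
    calc σ * y * σ⁻¹ = q0⁻¹ * (X * y) * σ⁻¹ := by rw [hX]; group
      _ = q0⁻¹ * (y * (q0 * σ)) * σ⁻¹ := by rw [hcomm, hX]
      _ = (q0⁻¹ * y) * q0 := by group
      _ = y * q0⁻¹ * x 11 c0 * q0 := by rw [hc0]
      _ = y * x 11 c0 := by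
        obtain ⟨A, C, D, E, G, e⟩ := hq0
        have hc : x 11 c0 * q0 = q0 * x 11 c0 := by
          rw [e, mk_mul_x11, (x_eq_mk c0).2.2.2.2.2, mk_mul_Q]
          congr 1 <;> ring
        rw [mul_assoc (y * q0⁻¹), hc]
        group
  have hyK : Springer.ext chevG2 F K y ∈ Qg K := by
    obtain ⟨A, C, D, E, G, e⟩ := hy
    refine ⟨algebraMap F K A, algebraMap F K C, algebraMap F K D, algebraMap F K E, algebraMap F K G, ?_⟩
    rw [e]
    simp [mk, map_mul, ext_x, x_zero]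
  set yK := Springer.ext chevG2 F K y with hyK'
  have hfixK : ψ gK * yK * (ψ gK)⁻¹ = yK * x 11 (algebraMap F K c0) := by
    rw [hgK, ← ext_rootHom hφ hψ g, hyK', ← map_inv, ← map_mul, ← map_mul, ← hσ, hfix, map_mul, ext_x]
  set k := ψ h with hk
  have hgk : ψ gK = k * tor l 1 * k⁻¹ := by
    rw [hk, ← hd, ← map_inv, ← map_mul, ← map_mul]
    congr 1
    exact eq_mul_inv_iff_mul_eq.2 hh
  set z := k⁻¹ * yK * k with hz
  have hzQ : z ∈ Qg K := by
    have := L_norm hψ h⁻¹ hyK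
    rw [map_inv, inv_inv] at this
    exact this
  have hzfix : tor l 1 * z * (tor l 1)⁻¹ = z * x 11 (algebraMap F K c0) := by
    calc tor l 1 * z * (tor l 1)⁻¹ = k⁻¹ * (ψ gK * yK * (ψ gK)⁻¹) * k := by rw [hgk, hz]; group
      _ = k⁻¹ * yK * (x 11 (algebraMap F K c0) * k) := by rw [hfixK]; group
      _ = z * x 11 (algebraMap F K c0) := by rw [hk, L_comm_eleven hψ h, hz, hk]; group
  obtain ⟨G, hG⟩ := Q_fixed hl3 hzQ hzfix
  have hy2 : y ^ 2 = 1 := by
    refine Springer.ext_injective (D := chevG2) (K := K) ?_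
    rw [map_pow, map_one, ← hyK', show yK = k * z * k⁻¹ by rw [hz]; group, conj_pow, hG, pow_two, x_sq]
    group
  have hdvd : orderOf X ∣ 2 * s := orderOf_dvd_of_pow_eq_one (by rw [mul_comm, pow_mul, hy2])
  rcases order_cases g with h0 | h0 | h0
  · exact absurd h0 h2
  · exact Or.inr (Or.inr (Or.inl (hdvd.trans (mul_dvd_mul_left 2 (orderOf_dvd_of_pow_eq_one h0)))))
  · exact Or.inr (Or.inr (Or.inr (hdvd.trans (mul_dvd_mul_left 2 (orderOf_dvd_of_pow_eq_one h0)))))

/-- The radical of the centraliser of the short root involution. -/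
def InP (g : GL chevG2.Idx F) : Prop := ∃ D E G : F, g = mk 0 0 0 D E G

theorem mk_mul_P (D E G d e f : F) :
    mk 0 0 0 D E G * mk 0 0 0 d e f = mk 0 0 0 (D + d) (E + e) (G + f) := by
  rw [mk_mul]
  congr 1 <;> ring

variable (F) in
/-- The radical as a subgroup. -/
noncomputable def Pg : Subgroup (GL chevG2.Idx F) where
  carrier := {g | InP g}
  one_mem' := ⟨0, 0, 0, mk_zero.symm⟩
  mul_mem' := by
    rintro _ _ ⟨D, E, G, rfl⟩ ⟨d, e, f, rfl⟩
    exact ⟨_, _, _, mk_mul_P _ _ _ _ _ _⟩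
  inv_mem' := by
    rintro _ ⟨D, E, G, rfl⟩
    refine ⟨D, E, G, inv_eq_of_mul_eq_one_right ?_⟩
    rw [mk_mul_P, ← mk_zero]
    congr 1 <;> first | rfl | linear_combination D * two' (F := F) | linear_combination E * two' (F := F) |
      linear_combination G * two' (F := F)

theorem P_sq {y : GL chevG2.Idx F} (hy : y ∈ Pg F) : y ^ 2 = 1 := by
  obtain ⟨D, E, G, rfl⟩ := hy
  rw [pow_two, mk_mul_P, ← mk_zero]
  congr 1 <;> first | linear_combination D * two' (F := F) | linear_combination E * two' (F := F) |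
    linear_combination G * two' (F := F)

theorem x_mem_Pg {r : ℕ} (hr : r ∈ [9, 10, 11]) (t : F) : x r t ∈ Pg F := by
  obtain ⟨-, -, -, e9, e10, e11⟩ := x_eq_mk t
  simp only [List.mem_cons, List.not_mem_nil, or_false] at hr
  rcases hr with rfl | rfl | rfl
  exacts [⟨_, _, _, e9⟩, ⟨_, _, _, e10⟩, ⟨_, _, _, e11⟩]

theorem w1_P : ∀ r ∈ [9, 10, 11], G2.cert.w 1 r ∈ [9, 10, 11] ∧ G2.cert.w 1 (G2.cert.w 1 r) = r := by
  decide +kernel

theorem Lb_norm {φ : Matrix.SpecialLinearGroup (Fin 2) F →* GL chevG2.Idx F} (h : IsRootHom 6 φ)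
    (g : Matrix.SpecialLinearGroup (Fin 2) F) {q : GL chevG2.Idx F} (hq : q ∈ Pg F) :
    φ g * q * (φ g)⁻¹ ∈ Pg F := by
  let R : Subgroup (GL chevG2.Idx F) :=
    { carrier := {z | ∀ q ∈ Pg F, z * q * z⁻¹ ∈ Pg F ∧ z⁻¹ * q * z ∈ Pg F}
      one_mem' := fun q hq => by simp [hq]
      mul_mem' := fun {a b} ha hb q hq => by
        have h1 := (ha _ (hb q hq).1).1
        have h2 := (hb _ (ha q hq).2).2
        constructor
        · simpa [mul_assoc] using h1
        · simpa [mul_assoc] using h2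
      inv_mem' := fun {a} ha q hq => by
        obtain ⟨h1, h2⟩ := ha q hq
        exact ⟨by simpa using h2, by simpa using h1⟩ }
  have h6 : ∀ t : F, x 6 t ∈ R := fun t q hq => by
    have key : ∀ q ∈ Pg F, x 6 t * q * x 6 t ∈ Pg F := by
      rintro _ ⟨D, E, G, rfl⟩
      rw [(x_eq_mk t).1, mk_mul, mk_mul]
      simp only [zero_mul, mul_zero, zero_add, add_zero, ne_eq, OfNat.ofNat_ne_zero, not_false_eq_true, zero_pow,
        show t + t = 0 by linear_combination t * two' (F := F)]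
      exact ⟨_, _, _, rfl⟩
    rw [x_inv]
    exact ⟨key q hq, key q hq⟩
  have hn : nn F 1 ∈ R := by
    intro q hq
    let S : Subgroup (GL chevG2.Idx F) := (Pg F).comap (MulAut.conj (nn F 1)).toMonoidHom ⊓
      (Pg F).comap (MulAut.conj (nn F 1)⁻¹).toMonoidHom
    have hx : ∀ r ∈ [9, 10, 11], ∀ t : F, x r t ∈ S := by
      intro r hr t
      obtain ⟨h1, h2⟩ := w1_P r hr
      have hr' : r < 12 := by
        simp only [List.mem_cons, List.not_mem_nil, or_false] at hr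
        omega
      refine Subgroup.mem_inf.2 ⟨?_, ?_⟩
      · show nn F 1 * x r t * (nn F 1)⁻¹ ∈ Pg F
        rw [nn_conj (by norm_num) hr']
        exact x_mem_Pg h1 t
      · show (nn F 1)⁻¹ * x r t * (nn F 1)⁻¹⁻¹ ∈ Pg F
        have e := nn_conj (F := F) (i := 1) (r := G2.cert.w 1 r) (by norm_num) (w_lt r hr').2 t
        rw [h2] at e
        rw [← e, inv_inv]
        simpa [mul_assoc] using x_mem_Pg h1 t
    obtain ⟨D, E, G, rfl⟩ := hq
    have h : mk 0 0 0 D E G ∈ S := by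
      rw [mk, x_zero, x_zero, x_zero, one_mul, one_mul, one_mul]
      exact mul_mem (mul_mem (hx 9 (by simp) D) (hx 10 (by simp) E)) (hx 11 (by simp) G)
    obtain ⟨h1, h2⟩ := Subgroup.mem_inf.1 h
    exact ⟨h1, by simpa using h2⟩
  have h5 : ∀ t : F, x 5 t ∈ R := fun t => by
    have e : x 5 t = nn F 1 * x 6 t * (nn F 1)⁻¹ := by
      rw [nn_conj (by norm_num) (by norm_num), show G2.cert.w 1 6 = 5 by decide +kernel]
    rw [e]
    exact mul_mem (mul_mem hn (h6 t)) (inv_mem hn)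
  exact ((h.mem h6 (by rw [show chevG2.neg 6 = 5 by decide +kernel]; exact h5) g) q hq).1

/-- Orders in the centraliser of the short root involution. -/
theorem order_t {φ : Matrix.SpecialLinearGroup (Fin 2) F →* GL chevG2.Idx F} (hφ : IsRootHom 6 φ)
    {p0 : GL chevG2.Idx F} (hp0 : p0 ∈ Pg F) (g : Matrix.SpecialLinearGroup (Fin 2) F) :
    orderOf (p0 * φ g) ∣ 8 ∨ orderOf (p0 * φ g) ∣ 2 * (Fintype.card F - 1) ∨
      orderOf (p0 * φ g) ∣ 2 * (Fintype.card F + 1) := by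
  have hy := mul_pow_mem (Pg F) (fun y hy => Lb_norm hφ g hy) hp0 (orderOf g)
  rw [← map_pow, pow_orderOf_eq_one, map_one, inv_one, mul_one] at hy
  have hdvd : orderOf (p0 * φ g) ∣ 2 * orderOf g :=
    orderOf_dvd_of_pow_eq_one (by rw [mul_comm 2, pow_mul, P_sq hy])
  rcases order_cases g with h0 | h0 | h0
  · exact Or.inl (hdvd.trans ((mul_dvd_mul_left 2 (orderOf_dvd_of_pow_eq_one h0)).trans (by norm_num)))
  · exact Or.inr (Or.inl (hdvd.trans (mul_dvd_mul_left 2 (orderOf_dvd_of_pow_eq_one h0))))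
  · exact Or.inr (Or.inr (hdvd.trans (mul_dvd_mul_left 2 (orderOf_dvd_of_pow_eq_one h0))))

/-- The order of an element of even order. -/
theorem order_even {g : GL chevG2.Idx F} (hg : g ∈ chevG2.group F) (he : 2 ∣ orderOf g) :
    orderOf g ∣ 8 ∨ orderOf g ∣ 12 ∨ orderOf g ∣ 2 * (Fintype.card F - 1) ∨
      orderOf g ∣ 2 * (Fintype.card F + 1) := by
  classical
  have hfin : 0 < orderOf g := orderOf_pos g
  set t := g ^ (orderOf g / 2) with ht
  have ht2 : orderOf t = 2 := orderOf_pow_orderOf_div hfin.ne' he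
  have htG : t ∈ chevG2.group F := pow_mem hg _
  obtain ⟨h0, h0G, h0U⟩ := sylow_conj htG ht2
  have hcls : Cls t := Cls.conj h0G (cls_of_involution h0U (by
      intro e
      rw [mul_inv_eq_one, mul_eq_left] at e
      rw [e, orderOf_one] at ht2
      omega) (by
      have : t * t = 1 := by rw [← pow_two, ← ht2, pow_orderOf_eq_one]
      calc h0 * t * h0⁻¹ * (h0 * t * h0⁻¹) = h0 * (t * t) * h0⁻¹ := by group
        _ = 1 := by rw [this]; group))
  obtain ⟨h, hG, hc⟩ := hcls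
  set X := h * g * h⁻¹ with hX
  have hXo : orderOf X = orderOf g :=
    orderOf_injective (MulAut.conj h).toMonoidHom (MulAut.conj h).injective g
  have hXt : ∀ z, h * t * h⁻¹ = z → X ∈ chevG2.group F ⊓ Subgroup.centralizer {z} := by
    intro z hz
    refine Subgroup.mem_inf.2 ⟨mul_mem (mul_mem hG hg) (inv_mem hG), Subgroup.mem_centralizer_singleton_iff.2 ?_⟩
    rw [← hz, hX]
    have := ((Commute.refl g).pow_right (orderOf g / 2)).eq
    calc h * g * h⁻¹ * (h * t * h⁻¹) = h * (g * t) * h⁻¹ := by group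
      _ = h * (t * g) * h⁻¹ := by rw [ht, this]
      _ = _ := by group
  rw [← hXo]
  rcases hc with hc | hc
  · have hm := hXt _ hc
    rw [cent_z] at hm
    obtain ⟨φ, hφ⟩ := exists_rootHom (F := F) 7 (by norm_num)
    have hsup : chevG2.posUnipotent F ⊔ chevG2.rootSubgroup F 4 ≤ Qg F ⊔ φ.range := by
      refine sup_le (fun u hu => ?_) (S2.rootSubgroup_le 4 fun s => ?_)
      · obtain ⟨A, B, C, D, E, G, rfl⟩ := exists_mk hu
        have h7 : x 7 B ∈ Qg F ⊔ φ.range := Subgroup.mem_sup_right ⟨_, hφ.upper B⟩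
        exact mul_mem (mul_mem (mul_mem (mul_mem (mul_mem (Subgroup.mem_sup_left (x_mem_Qg (by simp) A)) h7)
          (Subgroup.mem_sup_left (x_mem_Qg (by simp) C))) (Subgroup.mem_sup_left (x_mem_Qg (by simp) D)))
          (Subgroup.mem_sup_left (x_mem_Qg (by simp) E))) (Subgroup.mem_sup_left (x_mem_Qg (by simp) G))
      · refine Subgroup.mem_sup_right ⟨lM s, ?_⟩
        rw [hφ.lower, show chevG2.neg 7 = 4 by decide +kernel]
        rfl
    have hle : φ.range ≤ Subgroup.normalizer (Qg F : Set (GL chevG2.Idx F)) := by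
      rintro _ ⟨k, rfl⟩
      refine Subgroup.mem_normalizer_iff.2 fun y => ⟨fun hy => L_norm hφ k hy, fun hy => ?_⟩
      have := L_norm hφ k⁻¹ hy
      simpa [mul_assoc] using this
    have hm' : X ∈ ((Qg F ⊔ φ.range : Subgroup (GL chevG2.Idx F)) : Set (GL chevG2.Idx F)) := hsup hm
    rw [Subgroup.coe_mul_of_right_le_normalizer_left _ _ hle] at hm'
    obtain ⟨q0, hq0, _, ⟨k, rfl⟩, e⟩ := Set.mem_mul.1 hm'
    rw [← e]
    exact order_z hφ hq0 k
  · have hm := hXt _ hc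
    rw [cent_t] at hm
    obtain ⟨φ, hφ⟩ := exists_rootHom (F := F) 6 (by norm_num)
    have hsup : chevG2.rootSubgroup F 9 ⊔ chevG2.rootSubgroup F 10 ⊔ chevG2.rootSubgroup F 11 ⊔
        chevG2.rootSubgroup F 6 ⊔ chevG2.rootSubgroup F 5 ≤ Pg F ⊔ φ.range := by
      refine sup_le (sup_le (sup_le (sup_le ?_ ?_) ?_) ?_) ?_ <;> refine S2.rootSubgroup_le _ fun s => ?_
      · exact Subgroup.mem_sup_left (x_mem_Pg (r := 9) (by simp) s)
      · exact Subgroup.mem_sup_left (x_mem_Pg (r := 10) (by simp) s)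
      · exact Subgroup.mem_sup_left (x_mem_Pg (r := 11) (by simp) s)
      · exact Subgroup.mem_sup_right ⟨uM s, hφ.upper s⟩
      · refine Subgroup.mem_sup_right ⟨lM s, ?_⟩
        rw [hφ.lower, show chevG2.neg 6 = 5 by decide +kernel]
        rfl
    have hle : φ.range ≤ Subgroup.normalizer (Pg F : Set (GL chevG2.Idx F)) := by
      rintro _ ⟨k, rfl⟩
      refine Subgroup.mem_normalizer_iff.2 fun y => ⟨fun hy => Lb_norm hφ k hy, fun hy => ?_⟩
      have := Lb_norm hφ k⁻¹ hy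
      simpa [mul_assoc] using this
    have hm' : X ∈ ((Pg F ⊔ φ.range : Subgroup (GL chevG2.Idx F)) : Set (GL chevG2.Idx F)) := hsup hm
    rw [Subgroup.coe_mul_of_right_le_normalizer_left _ _ hle] at hm'
    obtain ⟨p0, hp0, _, ⟨k, rfl⟩, e⟩ := Set.mem_mul.1 hm'
    rw [← e]
    rcases order_t hφ hp0 k with h1 | h1 | h1
    exacts [Or.inl h1, Or.inr (Or.inr (Or.inl h1)), Or.inr (Or.inr (Or.inr h1))]

end Cfsg.Lib.GTwoOrd
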